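import Mathlib

/-!
# Corners of matrices in `SL_8(3)` (helper122, S2465, `E_8(3)`)

* `Gd E` : `E ≠ -1` and `E` is not a transvection;
* `exists_corner` : if the inverse of `M ∈ SL(4 ⊕ 4)` has a second corner `E ≠ -1` of determinant one, then a conjugate of `M` is
  `L diag(c, d) U` with `L`, `U` block unipotent and `Gd d`.
-/

set_option autoImplicit false

namespace Cfsg.Agent.H122.Pw.Cor

open Matrix

variable {K : Type*} [Field K]

/-- neither `-1` nor a transvection -/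
def Gd (E : Matrix (Fin 4) (Fin 4) K) : Prop := E ≠ -1 ∧ ∀ u v : Fin 4 → K, E = 1 + vecMulVec u v → E = 1

theorem Gd.tr {E : Matrix (Fin 4) (Fin 4) K} (h : Gd E) : Gd Eᵀ := by
  refine ⟨fun h1 => h.1 ?_, fun u v h1 => ?_⟩
  · rw [← Matrix.transpose_transpose E, h1, Matrix.transpose_neg, Matrix.transpose_one]
  · have h2 : E = 1 + vecMulVec v u := by
      rw [← Matrix.transpose_transpose E, h1, Matrix.transpose_add, Matrix.transpose_one, Matrix.transpose_vecMulVec]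
    rw [h.2 v u h2, Matrix.transpose_one]

theorem gd_one (h2 : (2 : K) ≠ 0) : Gd (1 : Matrix (Fin 4) (Fin 4) K) := by
  refine ⟨fun h => ?_, fun _ _ _ => rfl⟩
  have h1 := congrFun (congrFun h 0) 0
  rw [Matrix.neg_apply, Matrix.one_apply_eq] at h1
  exact h2 (by linear_combination h1)

/-- not parallel -/
def NP (x z : Fin 4 → K) : Prop := ∃ i j, x i * z j - x j * z i ≠ 0

theorem exists_dual {y b : Fin 4 → K} (h : NP y b) : ∃ w w' : Fin 4 → K, y ⬝ᵥ w = 1 ∧ b ⬝ᵥ w = 0 ∧ y ⬝ᵥ w' = 0 ∧ b ⬝ᵥ w' = 1 := by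
  obtain ⟨i, j, h⟩ := h
  refine ⟨(y i * b j - y j * b i)⁻¹ • (b j • Pi.single i 1 - b i • Pi.single j 1),
    (y i * b j - y j * b i)⁻¹ • (y i • Pi.single j 1 - y j • Pi.single i 1), ?_, ?_, ?_, ?_⟩ <;>
  · simp only [dotProduct_smul, dotProduct_sub, dotProduct_single, mul_one, smul_eq_mul]
    field_simp
    try ring

theorem gd_rank {x y z b : Fin 4 → K} (h2 : (2 : K) ≠ 0) (hx : NP x z) (hy : NP y b) :
    Gd (1 + vecMulVec x y + vecMulVec z b) := by
  constructor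
  · intro h
    have h1 : ∀ k l, x k * y l + z k * b l = if k = l then -2 else 0 := by
      intro k l
      have h3 := congrFun (congrFun h k) l
      rw [Matrix.add_apply, Matrix.add_apply, vecMulVec_apply, vecMulVec_apply, Matrix.neg_apply, Matrix.one_apply] at h3
      by_cases hkl : k = l
      · rw [if_pos hkl] at h3 ⊢
        linear_combination h3
      · rw [if_neg hkl] at h3 ⊢
        linear_combination h3
    have key : (x 0 * y 0 + z 0 * b 0) * ((x 1 * y 1 + z 1 * b 1) * (x 2 * y 2 + z 2 * b 2) -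
        (x 1 * y 2 + z 1 * b 2) * (x 2 * y 1 + z 2 * b 1)) -
        (x 0 * y 1 + z 0 * b 1) * ((x 1 * y 0 + z 1 * b 0) * (x 2 * y 2 + z 2 * b 2) -
        (x 1 * y 2 + z 1 * b 2) * (x 2 * y 0 + z 2 * b 0)) +
        (x 0 * y 2 + z 0 * b 2) * ((x 1 * y 0 + z 1 * b 0) * (x 2 * y 1 + z 2 * b 1) -
        (x 1 * y 1 + z 1 * b 1) * (x 2 * y 0 + z 2 * b 0)) = 0 := by ring
    simp only [h1] at key
    simp at key
    exact h2 key
  · intro u v h
    exfalso
    obtain ⟨w, w', h3, h4, h5, h6⟩ := exists_dual hy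
    have h7 : vecMulVec x y + vecMulVec z b = vecMulVec u v := by
      rw [add_assoc] at h
      exact add_left_cancel h
    have e1 := congrArg (fun R => R *ᵥ w) h7
    have e2 := congrArg (fun R => R *ᵥ w') h7
    simp only [Matrix.add_mulVec, vecMulVec_mulVec, h3, h4, h5, h6] at e1 e2
    obtain ⟨i, j, hx⟩ := hx
    apply hx
    have a1 := congrFun e1 i
    have a2 := congrFun e1 j
    have a3 := congrFun e2 i
    have a4 := congrFun e2 j
    simp at a1 a2 a3 a4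
    rw [a1, a2, a3, a4]
    ring

theorem det_two (x y z b : Fin 4 → K) : (1 + vecMulVec x y + vecMulVec z b).det =
    (1 + y ⬝ᵥ x) * (1 + b ⬝ᵥ z) - (y ⬝ᵥ z) * (b ⬝ᵥ x) := by
  have h1 : vecMulVec x y + vecMulVec z b = (Matrix.of ![x, z])ᵀ * Matrix.of ![y, b] := by
    ext i j
    rw [Matrix.add_apply, vecMulVec_apply, vecMulVec_apply, Matrix.mul_apply, Fin.sum_univ_two]
    rfl
  rw [add_assoc, h1, Matrix.det_one_add_mul_comm, Matrix.det_fin_two]
  have h2 : ∀ i j, (Matrix.of ![y, b] * (Matrix.of ![x, z])ᵀ) i j = ![y, b] i ⬝ᵥ ![x, z] j := fun i j => by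
    rw [Matrix.mul_apply]
    rfl
  simp only [Matrix.add_apply, h2]
  simp

theorem dot_of_det {x y : Fin 4 → K} (h : (1 + vecMulVec x y).det = 1) : y ⬝ᵥ x = 0 := by
  have h1 := det_two x y 0 0
  rw [Matrix.vecMulVec_zero, add_zero, h] at h1
  simp at h1
  exact h1

theorem exists_jk : ∀ i : Fin 4, ∃ j k : Fin 4, j ≠ i ∧ k ≠ i ∧ j ≠ k := by decide

theorem exists_perp (c : Fin 4 → K) {x : Fin 4 → K} (hx : x ≠ 0) : ∃ z, c ⬝ᵥ z = 0 ∧ NP x z := by
  obtain ⟨i, hi⟩ := Function.ne_iff.1 hx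
  rw [Pi.zero_apply] at hi
  obtain ⟨j, k, hji, hki, hjk⟩ := exists_jk i
  by_cases hc : c j = 0
  · refine ⟨Pi.single j 1, by rw [dotProduct_single, hc, zero_mul], i, j, ?_⟩
    rw [Pi.single_eq_same, Pi.single_eq_of_ne hji.symm, mul_one, mul_zero, sub_zero]
    exact hi
  · refine ⟨c k • Pi.single j 1 - c j • Pi.single k 1, ?_, i, k, ?_⟩
    · simp only [dotProduct_smul, dotProduct_sub, dotProduct_single, mul_one, smul_eq_mul]
      ring
    · simp only [Pi.sub_apply, Pi.smul_apply, Pi.single_eq_same, Pi.single_eq_of_ne hji.symm, Pi.single_eq_of_ne hki.symm,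
        Pi.single_eq_of_ne hjk.symm, smul_eq_mul]
      have : x i * (c k * 0 - c j * 1) - x k * (c k * 0 - c j * 0) = -(x i * c j) := by ring
      rw [this]
      exact neg_ne_zero.2 (mul_ne_zero hi hc)

theorem parallel {y b : Fin 4 → K} (hy : y ≠ 0) (h : ¬ NP y b) : ∃ c : K, b = c • y := by
  obtain ⟨i, hi⟩ := Function.ne_iff.1 hy
  rw [Pi.zero_apply] at hi
  refine ⟨b i / y i, ?_⟩
  ext j
  rw [NP] at h
  push Not at h
  have h1 := h i j
  rw [Pi.smul_apply, smul_eq_mul]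
  field_simp
  linear_combination h1

/-- **A transvection is moved off the transvections by a row.** -/
theorem exists_row (h2 : (2 : K) ≠ 0) {x y : Fin 4 → K} (hx : x ≠ 0) (hy : y ≠ 0) (hd : y ⬝ᵥ x = 0) {b : Fin 4 → K}
    (hb : b ≠ 0) : ∃ z, (1 + vecMulVec x y + vecMulVec z b).det = 1 ∧ Gd (1 + vecMulVec x y + vecMulVec z b) := by
  by_cases hnp : NP y b
  · obtain ⟨z, hz, hxz⟩ := exists_perp (b - (b ⬝ᵥ x) • y) hx
    refine ⟨z, ?_, gd_rank h2 hxz hnp⟩
    rw [det_two, hd]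
    rw [sub_dotProduct, smul_dotProduct, smul_eq_mul] at hz
    linear_combination hz
  · obtain ⟨c, rfl⟩ := parallel hy hnp
    have hc : c ≠ 0 := by
      rintro rfl
      exact hb (zero_smul _ _)
    have h1 : (1 : Matrix (Fin 4) (Fin 4) K) + vecMulVec x y + vecMulVec (-c⁻¹ • x) (c • y) = 1 := by
      ext i j
      simp only [Matrix.add_apply, vecMulVec_apply, Pi.smul_apply, smul_eq_mul]
      field_simp
      ring
    exact ⟨-c⁻¹ • x, by rw [h1, Matrix.det_one], by rw [h1]; exact gd_one h2⟩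

theorem exists_col (h2 : (2 : K) ≠ 0) {x y : Fin 4 → K} (hx : x ≠ 0) (hy : y ≠ 0) (hd : y ⬝ᵥ x = 0) {b : Fin 4 → K}
    (hb : b ≠ 0) : ∃ z, (1 + vecMulVec x y + vecMulVec b z).det = 1 ∧ Gd (1 + vecMulVec x y + vecMulVec b z) := by
  obtain ⟨z, h3, h4⟩ := exists_row h2 hy hx (by rw [dotProduct_comm]; exact hd) hb
  have h5 : (1 + vecMulVec y x + vecMulVec z b)ᵀ = 1 + vecMulVec x y + vecMulVec b z := by
    rw [Matrix.transpose_add, Matrix.transpose_add, Matrix.transpose_one, Matrix.transpose_vecMulVec,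
      Matrix.transpose_vecMulVec]
  exact ⟨z, by rw [← h5, Matrix.det_transpose]; exact h3, by rw [← h5]; exact h4.tr⟩

/-! ### Block matrices -/

/-- lower block unipotent -/
def low (Z : Matrix (Fin 4) (Fin 4) K) : SpecialLinearGroup (Fin 4 ⊕ Fin 4) K :=
  ⟨fromBlocks 1 0 Z 1, by rw [Matrix.det_fromBlocks_zero₁₂, Matrix.det_one, mul_one]⟩

/-- upper block unipotent -/
def up (Y : Matrix (Fin 4) (Fin 4) K) : SpecialLinearGroup (Fin 4 ⊕ Fin 4) K :=
  ⟨fromBlocks 1 Y 0 1, by rw [Matrix.det_fromBlocks_zero₂₁, Matrix.det_one, mul_one]⟩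

/-- first block -/
def dL : SpecialLinearGroup (Fin 4) K →* SpecialLinearGroup (Fin 4 ⊕ Fin 4) K where
  toFun A := ⟨fromBlocks A.1 0 0 1, by rw [Matrix.det_fromBlocks_zero₂₁, Matrix.det_one, mul_one]; exact A.2⟩
  map_one' := by
    apply Subtype.ext
    change fromBlocks (1 : Matrix (Fin 4) (Fin 4) K) 0 0 1 = 1
    exact Matrix.fromBlocks_one
  map_mul' A B := by
    apply Subtype.ext
    change fromBlocks (A.1 * B.1) 0 0 1 = fromBlocks A.1 0 0 1 * fromBlocks B.1 0 0 1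
    rw [Matrix.fromBlocks_multiply]
    simp

/-- second block -/
def dR : SpecialLinearGroup (Fin 4) K →* SpecialLinearGroup (Fin 4 ⊕ Fin 4) K where
  toFun A := ⟨fromBlocks 1 0 0 A.1, by rw [Matrix.det_fromBlocks_zero₂₁, Matrix.det_one, one_mul]; exact A.2⟩
  map_one' := by
    apply Subtype.ext
    change fromBlocks (1 : Matrix (Fin 4) (Fin 4) K) 0 0 1 = 1
    exact Matrix.fromBlocks_one
  map_mul' A B := by
    apply Subtype.ext
    change fromBlocks 1 0 0 (A.1 * B.1) = fromBlocks 1 0 0 A.1 * fromBlocks 1 0 0 B.1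
    rw [Matrix.fromBlocks_multiply]
    simp

theorem coe_low (Z : Matrix (Fin 4) (Fin 4) K) : (low Z).1 = fromBlocks 1 0 Z 1 := rfl
theorem coe_up (Z : Matrix (Fin 4) (Fin 4) K) : (up Z).1 = fromBlocks 1 Z 0 1 := rfl
theorem coe_dL (A : SpecialLinearGroup (Fin 4) K) : (dL A).1 = fromBlocks A.1 0 0 1 := rfl
theorem coe_dR (A : SpecialLinearGroup (Fin 4) K) : (dR A).1 = fromBlocks 1 0 0 A.1 := rfl

theorem low_add (Z Z' : Matrix (Fin 4) (Fin 4) K) : low Z * low Z' = low (Z + Z') := by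
  apply Subtype.ext
  change (low Z).1 * (low Z').1 = (low (Z + Z')).1
  rw [coe_low, coe_low, coe_low, Matrix.fromBlocks_multiply]
  simp

theorem up_add (Z Z' : Matrix (Fin 4) (Fin 4) K) : up Z * up Z' = up (Z + Z') := by
  apply Subtype.ext
  change (up Z).1 * (up Z').1 = (up (Z + Z')).1
  rw [coe_up, coe_up, coe_up, Matrix.fromBlocks_multiply]
  simp [add_comm]

theorem low_zero : low (0 : Matrix (Fin 4) (Fin 4) K) = 1 := by
  apply Subtype.ext
  change (low 0).1 = 1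
  rw [coe_low, Matrix.fromBlocks_one]

theorem up_zero : up (0 : Matrix (Fin 4) (Fin 4) K) = 1 := by
  apply Subtype.ext
  change (up 0).1 = 1
  rw [coe_up, Matrix.fromBlocks_one]

theorem low_inv (Z : Matrix (Fin 4) (Fin 4) K) : (low Z)⁻¹ = low (-Z) :=
  inv_eq_of_mul_eq_one_right (by rw [low_add, add_neg_cancel, low_zero])

theorem up_inv (Z : Matrix (Fin 4) (Fin 4) K) : (up Z)⁻¹ = up (-Z) :=
  inv_eq_of_mul_eq_one_right (by rw [up_add, add_neg_cancel, up_zero])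

theorem commute_dd (A B : SpecialLinearGroup (Fin 4) K) : dL A * dR B = dR B * dL A := by
  apply Subtype.ext
  change (dL A).1 * (dR B).1 = (dR B).1 * (dL A).1
  rw [coe_dL, coe_dR, Matrix.fromBlocks_multiply, Matrix.fromBlocks_multiply]
  simp

/-- the decomposition -/
theorem dec {N : SpecialLinearGroup (Fin 4 ⊕ Fin 4) K} {A B G : Matrix (Fin 4) (Fin 4) K}
    {e : SpecialLinearGroup (Fin 4) K} (hN : N.1 = fromBlocks A B G e.1) :
    ∃ Z Y c, N = up Y * (dL c * dR e) * low Z := by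
  have he : (e⁻¹).1 * e.1 = 1 := by
    change (e⁻¹ * e).1 = 1
    rw [inv_mul_cancel]; rfl
  have he' : e.1 * (e⁻¹).1 = 1 := by
    change (e * e⁻¹).1 = 1
    rw [mul_inv_cancel]; rfl
  have hmat : N.1 = fromBlocks 1 (B * (e⁻¹).1) 0 1 * (fromBlocks (A - B * (e⁻¹).1 * G) 0 0 1 * fromBlocks 1 0 0 e.1) *
      fromBlocks 1 0 ((e⁻¹).1 * G) 1 := by
    rw [hN, Matrix.fromBlocks_multiply, Matrix.fromBlocks_multiply, Matrix.fromBlocks_multiply]
    simp only [Matrix.one_mul, Matrix.mul_one, Matrix.zero_mul, Matrix.mul_zero, add_zero, zero_add]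
    have hBe : B * (e⁻¹).1 * e.1 = B := by rw [Matrix.mul_assoc, he, Matrix.mul_one]
    congr 1
    · rw [hBe, ← Matrix.mul_assoc B]
      abel
    · rw [hBe]
    · rw [← Matrix.mul_assoc, he', Matrix.one_mul]
  have hdet : (A - B * (e⁻¹).1 * G).det = 1 := by
    have h1 := congrArg Matrix.det hmat
    rw [Matrix.det_mul, Matrix.det_mul, Matrix.det_mul, Matrix.det_fromBlocks_zero₂₁, Matrix.det_fromBlocks_zero₂₁,
      Matrix.det_fromBlocks_zero₂₁, Matrix.det_fromBlocks_zero₁₂, Matrix.det_one, N.2, e.2] at h1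
    simp only [mul_one, one_mul] at h1
    exact h1.symm
  refine ⟨(e⁻¹).1 * G, B * (e⁻¹).1, ⟨_, hdet⟩, ?_⟩
  apply Subtype.ext
  exact hmat

theorem gd_inv {e : SpecialLinearGroup (Fin 4) K} (h : Gd e.1) : Gd (e⁻¹).1 := by
  have he' : e.1 * (e⁻¹).1 = 1 := by
    change (e * e⁻¹).1 = 1
    rw [mul_inv_cancel]; rfl
  refine ⟨fun h1 => h.1 ?_, fun u v h1 => ?_⟩
  · rw [h1, Matrix.mul_neg, Matrix.mul_one] at he'
    rw [← he', neg_neg]
  · have h2 : e.1 = 1 + vecMulVec (-(e.1 *ᵥ u)) v := by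
      rw [h1, Matrix.mul_add, Matrix.mul_one, Matrix.mul_vecMulVec] at he'
      rw [Matrix.neg_vecMulVec, ← sub_eq_add_neg, ← he', add_sub_cancel_right]
    have h3 := h.2 _ _ h2
    rw [h3, Matrix.one_mul] at he'
    exact he'

theorem corner_of {N : SpecialLinearGroup (Fin 4 ⊕ Fin 4) K} {A B G E : Matrix (Fin 4) (Fin 4) K}
    (hN : N.1 = fromBlocks A B G E) (hE : E.det = 1) (hg : Gd E) :
    ∃ (Z Y : Matrix (Fin 4) (Fin 4) K) (c d : SpecialLinearGroup (Fin 4) K),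
      N⁻¹ = (low Z)⁻¹ * (dL c * dR d) * (up Y)⁻¹ ∧ Gd d.1 := by
  obtain ⟨e, rfl⟩ : ∃ e : SpecialLinearGroup (Fin 4) K, e.1 = E := ⟨⟨E, hE⟩, rfl⟩
  obtain ⟨Z, Y, c, h⟩ := dec hN
  refine ⟨Z, Y, c⁻¹, e⁻¹, ?_, gd_inv hg⟩
  rw [h, _root_.mul_inv_rev, _root_.mul_inv_rev, _root_.mul_inv_rev, map_inv, map_inv, ← _root_.mul_inv_rev (dR e),
    ← commute_dd, _root_.mul_inv_rev]
  simp only [mul_assoc]

theorem conj_low {N : SpecialLinearGroup (Fin 4 ⊕ Fin 4) K} {A B G E : Matrix (Fin 4) (Fin 4) K}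
    (hN : N.1 = fromBlocks A B G E) (Z : Matrix (Fin 4) (Fin 4) K) :
    ∃ A' B' G', (low Z * N * (low Z)⁻¹).1 = fromBlocks A' B' G' (E + Z * B) := by
  refine ⟨A - B * Z, B, (Z * A + G) - (Z * B + E) * Z, ?_⟩
  rw [low_inv]
  change (low Z).1 * N.1 * (low (-Z)).1 = _
  rw [coe_low, coe_low, hN, Matrix.fromBlocks_multiply, Matrix.fromBlocks_multiply]
  simp only [Matrix.one_mul, Matrix.mul_one, Matrix.zero_mul, Matrix.mul_zero, add_zero, zero_add, Matrix.mul_neg]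
  congr 1
  · abel
  · abel
  · abel

theorem conj_up {N : SpecialLinearGroup (Fin 4 ⊕ Fin 4) K} {A B G E : Matrix (Fin 4) (Fin 4) K}
    (hN : N.1 = fromBlocks A B G E) (Y : Matrix (Fin 4) (Fin 4) K) :
    (up Y * N * (up Y)⁻¹).1 = fromBlocks (A + Y * G) (B + Y * E - (A + Y * G) * Y) G (E - G * Y) := by
  rw [up_inv]
  change (up Y).1 * N.1 * (up (-Y)).1 = _
  rw [coe_up, coe_up, hN, Matrix.fromBlocks_multiply, Matrix.fromBlocks_multiply]
  simp only [Matrix.one_mul, Matrix.mul_one, Matrix.zero_mul, Matrix.mul_zero, add_zero, zero_add, Matrix.mul_neg]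
  congr 1
  · abel
  · abel

theorem case_B (h2 : (2 : K) ≠ 0) {N : SpecialLinearGroup (Fin 4 ⊕ Fin 4) K} {A B G : Matrix (Fin 4) (Fin 4) K}
    {x y : Fin 4 → K} (hx : x ≠ 0) (hy : y ≠ 0) (hd : y ⬝ᵥ x = 0) (hN : N.1 = fromBlocks A B G (1 + vecMulVec x y))
    (hB : B ≠ 0) : ∃ (S : SpecialLinearGroup (Fin 4 ⊕ Fin 4) K) (A' B' G' E' : Matrix (Fin 4) (Fin 4) K),
      (S * N * S⁻¹).1 = fromBlocks A' B' G' E' ∧ E'.det = 1 ∧ Gd E' := by
  obtain ⟨i, hi⟩ : ∃ i, B i ≠ 0 := Function.ne_iff.1 hB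
  obtain ⟨z, h3, h4⟩ := exists_row h2 hx hy hd hi
  have h5 : vecMulVec z (Pi.single i 1) * B = vecMulVec z (B i) := by
    rw [Matrix.vecMulVec_mul, Matrix.single_one_vecMul]
    rfl
  obtain ⟨A', B', G', h6⟩ := conj_low hN (vecMulVec z (Pi.single i 1))
  rw [h5] at h6
  exact ⟨_, A', B', G', _, h6, h3, h4⟩

theorem exists_conj (h2 : (2 : K) ≠ 0) {N : SpecialLinearGroup (Fin 4 ⊕ Fin 4) K} {A B G E : Matrix (Fin 4) (Fin 4) K}
    (hN : N.1 = fromBlocks A B G E) (hE : E.det = 1) (hE' : E ≠ -1) :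
    ∃ (S : SpecialLinearGroup (Fin 4 ⊕ Fin 4) K) (A' B' G' E' : Matrix (Fin 4) (Fin 4) K),
      (S * N * S⁻¹).1 = fromBlocks A' B' G' E' ∧ E'.det = 1 ∧ Gd E' := by
  by_cases hg : Gd E
  · exact ⟨1, A, B, G, E, by rw [one_mul, inv_one, mul_one]; exact hN, hE, hg⟩
  rw [Gd] at hg
  push Not at hg
  obtain ⟨x, y, rfl, h1⟩ := hg hE'
  have hx : x ≠ 0 := by
    rintro rfl
    exact h1 (by rw [Matrix.zero_vecMulVec, add_zero])
  have hy : y ≠ 0 := by
    rintro rfl
    exact h1 (by rw [Matrix.vecMulVec_zero, add_zero])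
  have hd := dot_of_det hE
  by_cases hB : B = 0
  · by_cases hG : G = 0
    · subst hB hG
      obtain ⟨Y, hY⟩ : ∃ Y : Matrix (Fin 4) (Fin 4) K, Y * (1 + vecMulVec x y) - A * Y ≠ 0 := by
        by_contra hcon
        push Not at hcon
        have h3 := hcon 1
        rw [Matrix.one_mul, Matrix.mul_one, sub_eq_zero] at h3
        -- `E` commutes with everything
        obtain ⟨i, hi⟩ := Function.ne_iff.1 hx
        obtain ⟨j, hj⟩ := Function.ne_iff.1 hy
        rw [Pi.zero_apply] at hi hj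
        have h4 := fun Y => hcon Y
        rw [← h3] at h4
        have h5 : ∀ Y : Matrix (Fin 4) (Fin 4) K, Y * vecMulVec x y = vecMulVec x y * Y := by
          intro Y
          have := h4 Y
          rw [Matrix.mul_add, Matrix.add_mul, Matrix.mul_one, Matrix.one_mul, add_sub_add_left_eq_sub, sub_eq_zero] at this
          exact this
        -- `(Y x) y = x (y Y)` for all `Y`
        have h6 : ∀ Y : Matrix (Fin 4) (Fin 4) K, ∀ k l, (Y *ᵥ x) k * y l = x k * (y ᵥ* Y) l := by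
          intro Y k l
          have := congrFun (congrFun (h5 Y) k) l
          rw [Matrix.mul_vecMulVec, Matrix.vecMulVec_mul, vecMulVec_apply, vecMulVec_apply] at this
          exact this
        -- `Y = single k i`, `k` with `x k` ...
        obtain ⟨k, hk⟩ : ∃ k : Fin 4, k ≠ j := exists_ne j
        -- `Y = vecMulVec a b`: `(b ⬝ x) a_k y_l = x_k (y ⬝ a) b_l`
        have h7 : ∀ a b : Fin 4 → K, ∀ k l, (b ⬝ᵥ x) * a k * y l = x k * ((y ⬝ᵥ a) * b l) := by
          intro a b k l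
          have := h6 (vecMulVec a b) k l
          rw [vecMulVec_mulVec, vecMul_vecMulVec] at this
          simpa [mul_comm, mul_left_comm, mul_assoc] using this
        -- `a = x`, `y ⬝ x = 0`
        have h8 := h7 x (Pi.single i 1) i j
        rw [hd, zero_mul, mul_zero, single_dotProduct, one_mul] at h8
        exact (mul_ne_zero (mul_ne_zero hi hi) hj) h8
      have h3 := conj_up hN Y
      rw [Matrix.mul_zero, add_zero, Matrix.zero_mul, sub_zero, zero_add] at h3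
      obtain ⟨S, A', B', G', E', h4, h5, h6⟩ := case_B h2 hx hy hd h3 hY
      refine ⟨S * up Y, A', B', G', E', ?_, h5, h6⟩
      have h7 : S * up Y * N * (S * up Y)⁻¹ = S * (up Y * N * (up Y)⁻¹) * S⁻¹ := by group
      rw [h7]
      exact h4
    · obtain ⟨i, hi⟩ : ∃ i, Gᵀ i ≠ 0 := by
        refine Function.ne_iff.1 fun h => hG ?_
        have h' : Gᵀ = 0 := h
        rw [← Matrix.transpose_transpose G, h', Matrix.transpose_zero]
      obtain ⟨z, h3, h4⟩ := exists_col h2 hx hy hd hi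
      have h5 : G * vecMulVec (Pi.single i 1) z = vecMulVec (Gᵀ i) z := by
        rw [Matrix.mul_vecMulVec, Matrix.mulVec_single_one]
        rfl
      have h6 := conj_up hN (-vecMulVec (Pi.single i 1) z)
      rw [Matrix.mul_neg G, h5, sub_neg_eq_add] at h6
      exact ⟨_, _, _, _, _, h6, h3, h4⟩
  · exact case_B h2 hx hy hd hN hB

/-- **The corner.** -/
theorem exists_corner (h2 : (2 : K) ≠ 0) (M : SpecialLinearGroup (Fin 4 ⊕ Fin 4) K)
    (hE : ((M⁻¹).1.toBlocks₂₂).det = 1) (hE' : (M⁻¹).1.toBlocks₂₂ ≠ -1) :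
    ∃ (S : SpecialLinearGroup (Fin 4 ⊕ Fin 4) K) (Z Y : Matrix (Fin 4) (Fin 4) K) (c d : SpecialLinearGroup (Fin 4) K),
      S * M * S⁻¹ = (low Z)⁻¹ * (dL c * dR d) * (up Y)⁻¹ ∧ Gd d.1 := by
  obtain ⟨S, A', B', G', E', h1, h3, h4⟩ := exists_conj h2 (Matrix.fromBlocks_toBlocks (M⁻¹).1).symm hE hE'
  obtain ⟨Z, Y, c, d, h5, h6⟩ := corner_of h1 h3 h4
  refine ⟨S, Z, Y, c, d, ?_, h6⟩
  rw [← h5]
  group

end Cfsg.Agent.H122.Pw.Cor
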