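import Cfsg.Agent.H122.Pw.TabE8

/-!
# `E₈(q)`: the Levi subgroups of type `A₄ A₃` and `A₄ A₂ A₁` (helper122, S2465)

* `pairsP`, `pairsQ` : every element of `E₈(q)` is `a b` with `a ^ N = b ^ N = 1`, from products of two elements with irreducible
  characteristic polynomials in `SL₅(q)`, `SL₄(q)` resp. `SL₅(q)`, `SL₃(q)`, `SL₂(q)`.
-/

set_option autoImplicit false
set_option linter.unusedSectionVars false

namespace Cfsg.Agent.H122.Pw

open CoxeterSystem Cfsg.Agent.ChevalleyStructure.CoxeterGeom Cfsg.Agent.Tits.Roots Cfsg.Agent.Tits.Core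
  Cfsg.Agent.Nodes.Reps Cfsg.Agent.Nodes.BNOf Cfsg.Agent.Nodes.RGDLib Cfsg.Agent.Nodes.Bruhat
  Cfsg.Agent.Nodes.OppDec Cfsg.Agent.Nodes.LeviDec Cfsg.Agent.Nodes.KindChev Cfsg.Agent.Nodes.ChevCls
  Cfsg.Agent.OddHalf.NI.ModelChev Cfsg.Agent.Nodes.StabComb
  Cfsg.Agent.H162.GaussDec Cfsg.Agent.H162.GaussLevi Cfsg.Agent.H162.GaussSL Cfsg.Agent.H162.GaussReg
  Cfsg.Agent.H162.GaussPQ
  Cfsg.Agent.H928.Ore.Frame
open Cfsg.Lie Cfsg.Agent.ChevalleyStructure Cfsg.Agent.ChevalleyStructure.Elts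
  Cfsg.Agent.ChevalleyStructure.RootVec Cfsg.Agent.ChevalleyStructure.NPerm
  Cfsg.Agent.ChevalleyStructure.CoxeterGeomTypes Cfsg.Agent.Nodes.RGDChev Cfsg.Agent.KFacts.RgdChevCoord
open Cfsg.Agent.FixBN.FieldRGD (uu vv dd ww)
open Cfsg.Agent.TitsThree.KExcRT Cfsg.Agent.AGraded
open Cfsg.Agent.H482.Ore.Fix (Bk SimpB wt Dz)
open Cfsg.Agent.H78.Pw Cfsg.Agent.H85.Pw Cfsg.Agent.H194.Pw
open Cfsg.Agent.H150.E6T (Cm commute_hom commute_two tv01 tv10 xc_commute)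
open scoped MatrixGroups

universe u

theorem hp8 : IsType chevE8 8 CoxeterMatrix.E₈ := Cfsg.Agent.Nodes.KindE.isType8

abbrev cs8 : CoxeterSystem CoxeterMatrix.E₈ CoxeterMatrix.E₈.Group := CoxeterMatrix.E₈.toCoxeterSystem

/-! ### The homomorphisms -/

section Hom

theorem exists_pa (K : Type u) [Field K] : ∃ φ : Matrix.SpecialLinearGroup (Fin 5) K →* ↥(chevE8.group K),
    ∀ a b (hab : a ≠ b) c, φ (Matrix.SpecialLinearGroup.transvection hab c) =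
      xc hp8 (vec chevE8 8 (ra a b)) ((sa a b : K) * c) :=
  exists_hom_S hp8 rta.1 rta.2.1 rta.2.2.1 rta.2.2.2.1 rta.2.2.2.2.1 rta.2.2.2.2.2

theorem exists_pb (K : Type u) [Field K] : ∃ φ : Matrix.SpecialLinearGroup (Fin 4) K →* ↥(chevE8.group K),
    ∀ a b (hab : a ≠ b) c, φ (Matrix.SpecialLinearGroup.transvection hab c) =
      xc hp8 (vec chevE8 8 (rb a b)) ((sb a b : K) * c) :=
  exists_hom_S hp8 rtb.1 rtb.2.1 rtb.2.2.1 rtb.2.2.2.1 rtb.2.2.2.2.1 rtb.2.2.2.2.2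

theorem exists_pc (K : Type u) [Field K] : ∃ φ : Matrix.SpecialLinearGroup (Fin 5) K →* ↥(chevE8.group K),
    ∀ a b (hab : a ≠ b) c, φ (Matrix.SpecialLinearGroup.transvection hab c) =
      xc hp8 (vec chevE8 8 (rc a b)) ((sc a b : K) * c) :=
  exists_hom_S hp8 rtc.1 rtc.2.1 rtc.2.2.1 rtc.2.2.2.1 rtc.2.2.2.2.1 rtc.2.2.2.2.2

theorem exists_pd (K : Type u) [Field K] : ∃ φ : Matrix.SpecialLinearGroup (Fin 3) K →* ↥(chevE8.group K),
    ∀ a b (hab : a ≠ b) c, φ (Matrix.SpecialLinearGroup.transvection hab c) =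
      xc hp8 (vec chevE8 8 (rd a b)) ((sd a b : K) * c) :=
  exists_hom_S hp8 rtd.1 rtd.2.1 rtd.2.2.1 rtd.2.2.2.1 rtd.2.2.2.2.1 rtd.2.2.2.2.2

theorem vece : (sr 1 : Fin 8 → ℤ) = vec chevE8 8 141 ∧ (-sr 1 : Fin 8 → ℤ) = vec chevE8 8 98 := by
  have h1 : (sr 1 : Fin 8 → ℤ) = vec chevE8 8 141 := by
    rw [← vec_simple hp8 1]
    exact congrArg _ (by decide +kernel)
  refine ⟨h1, ?_⟩
  rw [h1, ← vec_neg hp8 (by decide +kernel)]
  exact congrArg _ (by decide +kernel)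

theorem exists_pe (K : Type u) [Field K] : ∃ φ : Matrix.SpecialLinearGroup (Fin 2) K →* ↥(chevE8.group K),
    ∀ a b (hab : a ≠ b) c, φ (Matrix.SpecialLinearGroup.transvection hab c) =
      xc hp8 (vec chevE8 8 (re a b)) ((se a b : K) * c) := by
  refine ⟨sl hp8 (K := K) 1, fun a b hab c => ?_⟩
  have e1 : ((1 : ℤ) : K) * c = c := by rw [Int.cast_one, one_mul]
  fin_cases a <;> fin_cases b
  · exact absurd rfl hab
  · have h1 : sl hp8 (K := K) 1 (uu c) = xc hp8 (vec chevE8 8 141) c := by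
      rw [← vece.1]
      exact sl_uu hp8 1 c
    exact ((congrArg (sl hp8 (K := K) 1) (tv01 c)).trans h1).trans (congrArg (xc hp8 (vec chevE8 8 141)) e1.symm)
  · have h1 : sl hp8 (K := K) 1 (vv c) = xc hp8 (vec chevE8 8 98) c := by
      rw [← vece.2]
      exact sl_vv hp8 1 c
    exact ((congrArg (sl hp8 (K := K) 1) (tv10 c)).trans h1).trans (congrArg (xc hp8 (vec chevE8 8 98)) e1.symm)
  · exact absurd rfl hab

variable (K : Type u) [Field K]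

noncomputable def pa : Matrix.SpecialLinearGroup (Fin 5) K →* ↥(chevE8.group K) := (exists_pa K).choose
noncomputable def pb : Matrix.SpecialLinearGroup (Fin 4) K →* ↥(chevE8.group K) := (exists_pb K).choose
noncomputable def pc : Matrix.SpecialLinearGroup (Fin 5) K →* ↥(chevE8.group K) := (exists_pc K).choose
noncomputable def pd : Matrix.SpecialLinearGroup (Fin 3) K →* ↥(chevE8.group K) := (exists_pd K).choose
noncomputable def pe : Matrix.SpecialLinearGroup (Fin 2) K →* ↥(chevE8.group K) := (exists_pe K).choose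

theorem pa_tv (a b : Fin 5) (hab : a ≠ b) (c : K) : pa K (Matrix.SpecialLinearGroup.transvection hab c) =
    xc hp8 (vec chevE8 8 (ra a b)) ((sa a b : K) * c) := (exists_pa K).choose_spec a b hab c
theorem pb_tv (a b : Fin 4) (hab : a ≠ b) (c : K) : pb K (Matrix.SpecialLinearGroup.transvection hab c) =
    xc hp8 (vec chevE8 8 (rb a b)) ((sb a b : K) * c) := (exists_pb K).choose_spec a b hab c
theorem pc_tv (a b : Fin 5) (hab : a ≠ b) (c : K) : pc K (Matrix.SpecialLinearGroup.transvection hab c) =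
    xc hp8 (vec chevE8 8 (rc a b)) ((sc a b : K) * c) := (exists_pc K).choose_spec a b hab c
theorem pd_tv (a b : Fin 3) (hab : a ≠ b) (c : K) : pd K (Matrix.SpecialLinearGroup.transvection hab c) =
    xc hp8 (vec chevE8 8 (rd a b)) ((sd a b : K) * c) := (exists_pd K).choose_spec a b hab c
theorem pe_tv (a b : Fin 2) (hab : a ≠ b) (c : K) : pe K (Matrix.SpecialLinearGroup.transvection hab c) =
    xc hp8 (vec chevE8 8 (re a b)) ((se a b : K) * c) := (exists_pe K).choose_spec a b hab c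

variable {K}

theorem cm_comm {r s : ℕ} (h : Cm chevE8 r s) (a b : K) :
    Commute (xc hp8 (vec chevE8 8 r) a) (xc hp8 (vec chevE8 8 s) b) :=
  xc_commute hp8 h.1 h.2.1 h.2.2.1 h.2.2.2.1 h.2.2.2.2 a b

theorem comm_gen {m n : ℕ} {r : Fin m → Fin m → ℕ} {r' : Fin n → Fin n → ℕ} {s : Fin m → Fin m → ℤ}
    {s' : Fin n → Fin n → ℤ} {φ : Matrix.SpecialLinearGroup (Fin m) K →* ↥(chevE8.group K)}
    {φ' : Matrix.SpecialLinearGroup (Fin n) K →* ↥(chevE8.group K)}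
    (h : ∀ a b (hab : a ≠ b) c, φ (Matrix.SpecialLinearGroup.transvection hab c) =
      xc hp8 (vec chevE8 8 (r a b)) ((s a b : K) * c))
    (h' : ∀ a b (hab : a ≠ b) c, φ' (Matrix.SpecialLinearGroup.transvection hab c) =
      xc hp8 (vec chevE8 8 (r' a b)) ((s' a b : K) * c))
    (hc : ∀ a b, a ≠ b → ∀ c d, c ≠ d → Cm chevE8 (r a b) (r' c d)) (A : Matrix.SpecialLinearGroup (Fin m) K)
    (B : Matrix.SpecialLinearGroup (Fin n) K) : Commute (φ A) (φ' B) := by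
  refine commute_hom _ _ (fun a b hab c => (commute_hom _ _ (fun a' b' hab' d => ?_) B).symm) A
  rw [h, h']
  exact (cm_comm (hc a b hab a' b' hab') _ _).symm

theorem cab (A : Matrix.SpecialLinearGroup (Fin 5) K) (B : Matrix.SpecialLinearGroup (Fin 4) K) :
    Commute (pa K A) (pb K B) := comm_gen (pa_tv K) (pb_tv K) cmab A B

theorem ccd (A : Matrix.SpecialLinearGroup (Fin 5) K) (B : Matrix.SpecialLinearGroup (Fin 3) K) :
    Commute (pc K A) (pd K B) := comm_gen (pc_tv K) (pd_tv K) cmcd A B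

theorem cce (A : Matrix.SpecialLinearGroup (Fin 5) K) (B : Matrix.SpecialLinearGroup (Fin 2) K) :
    Commute (pc K A) (pe K B) := comm_gen (pc_tv K) (pe_tv K) cmce A B

theorem cde (A : Matrix.SpecialLinearGroup (Fin 3) K) (B : Matrix.SpecialLinearGroup (Fin 2) K) :
    Commute (pd K A) (pe K B) := comm_gen (pd_tv K) (pe_tv K) cmde A B

variable (K)

/-- the Levi subgroup of type `A₄ A₃` -/
noncomputable def PhP : Matrix.SpecialLinearGroup (Fin 5) K × Matrix.SpecialLinearGroup (Fin 4) K →* ↥(chevE8.group K) :=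
  (pa K).noncommCoprod (pb K) cab

noncomputable def PhR : Matrix.SpecialLinearGroup (Fin 5) K × Matrix.SpecialLinearGroup (Fin 3) K →* ↥(chevE8.group K) :=
  (pc K).noncommCoprod (pd K) ccd

/-- the Levi subgroup of type `A₄ A₂ A₁` -/
noncomputable def PhQ : (Matrix.SpecialLinearGroup (Fin 5) K × Matrix.SpecialLinearGroup (Fin 3) K) ×
    Matrix.SpecialLinearGroup (Fin 2) K →* ↥(chevE8.group K) :=
  (PhR K).noncommCoprod (pe K) fun p B => (cce p.1 B).mul_left (cde p.2 B)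

theorem pcP : Pc hp8 K {k | k ∈ JP} (PhP K) ((LT 5 K).prod (LT 4 K)) ((UT 5 K).prod (UT 4 K))
    (fun q => Qb ra q ∨ Qb rb q) :=
  (Pc.block (pa_tv K) rta.1 raP rta.2.2.2.1).prod (Pc.block (pb_tv K) rtb.1 rbP rtb.2.2.2.1) cab

theorem pcQ : Pc hp8 K {k | k ∈ JQ} (PhQ K) (((LT 5 K).prod (LT 3 K)).prod (LT 2 K))
    (((UT 5 K).prod (UT 3 K)).prod (UT 2 K)) (fun q => (Qb rc q ∨ Qb rd q) ∨ Qb re q) :=
  ((Pc.block (pc_tv K) rtc.1 rcQ rtc.2.2.2.1).prod (Pc.block (pd_tv K) rtd.1 rdQ rtd.2.2.2.1) ccd).prod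
    (Pc.block (pe_tv K) rte.1 reQ rte.2.1) fun p B => (cce p.1 B).mul_left (cde p.2 B)

end Hom

/-! ### Fixed points -/

section nf

variable {K : Type u} [Field K] [Finite K]

theorem prod_nat {K' : Type u} [Field K'] {i : K →+* K'} {n : ℕ} {g : Polynomial K} {z : K'} (S : Spec i n g z)
    (hn : 0 < n) (w : Fin n → ℤ) : (∏ k : Fin n, (z ^ Nat.card K ^ (k : ℕ)) ^ w k) ^ (Nat.card K ^ n - 1) = 1 :=
  prod_pow_one (fun k => pow_card S hn k) w

/-- **No fixed points, `A₄ A₃`.** -/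
theorem nfP (hcop : (∑ a ∈ Finset.range 5, Nat.card K ^ a).Coprime (Nat.card K ^ 4 - 1))
    {A : Matrix.SpecialLinearGroup (Fin 5) K} {B : Matrix.SpecialLinearGroup (Fin 4) K}
    (hA : Irreducible (A : Matrix (Fin 5) (Fin 5) K).charpoly) (hB : Irreducible (B : Matrix (Fin 4) (Fin 4) K).charpoly) :
    NF (VJ cs8 hp8.isCartan (XX chevE8 8 K) {k | k ∈ JP}) (PhP K (A, B)) ∧
      NF (VNJ cs8 hp8.isCartan (XX chevE8 8 K) {k | k ∈ JP}) (PhP K (A, B)) := by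
  obtain ⟨K', _, _, i, z, v, -, S, S', -⟩ := exists_common A B B hA hB hB
  obtain ⟨ch, hch⟩ := CharP.exists K'
  have : Fact ch.Prime := ⟨(CharP.char_is_prime_or_zero K' ch).resolve_right (CharP.char_ne_zero_of_finite K' ch)⟩
  have BA : Bk hp8 i {k | k ∈ JP} 3 ra ja (pa K) (pa K') (fun a b => ((sa a b : ℤ) : K)) :=
    { simp := ⟨sima.1, sima.2⟩
      rlt := rta.1
      rJ := raP
      hφ := pa_tv K
      hφ' := fun a b hab c => by rw [pa_tv, map_intCast]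
      ss := fun a => by rw [rta.2.2.2.2.1 a.castSucc a.succ, ← Int.cast_mul, rta.2.2.2.1, Int.cast_one] }
  have BB : Bk hp8 i {k | k ∈ JP} 2 rb jb (pb K) (pb K') (fun a b => ((sb a b : ℤ) : K)) :=
    { simp := ⟨simb.1, simb.2⟩
      rlt := rtb.1
      rJ := rbP
      hφ := pb_tv K
      hφ' := fun a b hab c => by rw [pb_tv, map_intCast]
      ss := fun a => by rw [rtb.2.2.2.2.1 a.castSucc a.succ, ← Int.cast_mul, rtb.2.2.2.1, Int.cast_one] }
  obtain ⟨g, hg⟩ := Cfsg.Agent.H934.MF.diag_map i (A : Matrix (Fin 5) (Fin 5) K) S.inj S.split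
  obtain ⟨g', hg'⟩ := Cfsg.Agent.H934.MF.diag_map i (B : Matrix (Fin 4) (Fin 4) K) S'.inj S'.split
  refine ((BA.dz hp8 hg).mul hp8 (BB.dz hp8 hg') (BA.comm_range₂ hp8 BB fun a b hab c d hcd x y =>
    (cm_comm (cmab a b hab c d hcd) x y).eq)).nf hp8 ch fun q hq hk => ?_
  rcases outP q hq hk with ⟨a, b, hab, hw⟩ | ⟨h0, a, hw⟩
  · exact five_ne S hcop hab hw (prod_nat S' (by norm_num) _)
  · have h1 : ∏ k : Fin 5, (z ^ Nat.card K ^ (k : ℕ)) ^ wt chevE8 ja q k = 1 :=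
      Finset.prod_eq_one fun k _ => by rw [h0, zpow_zero]
    have hl0 : ∀ k : Fin 4, v ^ Nat.card K ^ (k : ℕ) ≠ 0 := fun k => pow_ne_zero _ (z0 S' (by norm_num))
    intro h
    have h' : (∏ k : Fin 5, (z ^ Nat.card K ^ (k : ℕ)) ^ wt chevE8 ja q k) *
        ∏ k : Fin 4, (v ^ Nat.card K ^ (k : ℕ)) ^ wt chevE8 jb q k = 1 := h
    rw [h1, one_mul] at h'
    rcases hw with hw | hw
    · rw [prod_one hl0 (prod_lam S') hw] at h'
      exact ne_one S' (by norm_num) _ h'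
    · rw [prod_inv_one hl0 (prod_lam S') hw] at h'
      exact ne_one S' (by norm_num) _ (inv_eq_one.1 h')

/-- **No fixed points, `A₄ A₂ A₁`.** -/
theorem nfQ (hcop : (∑ a ∈ Finset.range 5, Nat.card K ^ a).Coprime ((Nat.card K ^ 3 - 1) * (Nat.card K ^ 2 - 1)))
    {A : Matrix.SpecialLinearGroup (Fin 5) K} {B : Matrix.SpecialLinearGroup (Fin 3) K}
    {C : Matrix.SpecialLinearGroup (Fin 2) K}
    (hA : Irreducible (A : Matrix (Fin 5) (Fin 5) K).charpoly) (hB : Irreducible (B : Matrix (Fin 3) (Fin 3) K).charpoly)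
    (hC : Irreducible (C : Matrix (Fin 2) (Fin 2) K).charpoly) :
    NF (VJ cs8 hp8.isCartan (XX chevE8 8 K) {k | k ∈ JQ}) (PhQ K ((A, B), C)) ∧
      NF (VNJ cs8 hp8.isCartan (XX chevE8 8 K) {k | k ∈ JQ}) (PhQ K ((A, B), C)) := by
  obtain ⟨K', _, _, i, z, v, w, S, S', S''⟩ := exists_common A B C hA hB hC
  obtain ⟨ch, hch⟩ := CharP.exists K'
  have : Fact ch.Prime := ⟨(CharP.char_is_prime_or_zero K' ch).resolve_right (CharP.char_ne_zero_of_finite K' ch)⟩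
  have BA : Bk hp8 i {k | k ∈ JQ} 3 rc jc (pc K) (pc K') (fun a b => ((sc a b : ℤ) : K)) :=
    { simp := ⟨simc.1, simc.2⟩
      rlt := rtc.1
      rJ := rcQ
      hφ := pc_tv K
      hφ' := fun a b hab c => by rw [pc_tv, map_intCast]
      ss := fun a => by rw [rtc.2.2.2.2.1 a.castSucc a.succ, ← Int.cast_mul, rtc.2.2.2.1, Int.cast_one] }
  have BB : Bk hp8 i {k | k ∈ JQ} 1 rd jd (pd K) (pd K') (fun a b => ((sd a b : ℤ) : K)) :=
    { simp := ⟨simd.1, simd.2⟩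
      rlt := rtd.1
      rJ := rdQ
      hφ := pd_tv K
      hφ' := fun a b hab c => by rw [pd_tv, map_intCast]
      ss := fun a => by rw [rtd.2.2.2.2.1 a.castSucc a.succ, ← Int.cast_mul, rtd.2.2.2.1, Int.cast_one] }
  have BC : Bk hp8 i {k | k ∈ JQ} 0 re je (pe K) (pe K') (fun a b => ((se a b : ℤ) : K)) :=
    { simp := ⟨sime.1, sime.2⟩
      rlt := rte.1
      rJ := reQ
      hφ := pe_tv K
      hφ' := fun a b hab c => by rw [pe_tv, map_intCast]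
      ss := fun a => by rw [rte.2.2.1 a.castSucc a.succ, ← Int.cast_mul, rte.2.1, Int.cast_one] }
  obtain ⟨g, hg⟩ := Cfsg.Agent.H934.MF.diag_map i (A : Matrix (Fin 5) (Fin 5) K) S.inj S.split
  obtain ⟨g', hg'⟩ := Cfsg.Agent.H934.MF.diag_map i (B : Matrix (Fin 3) (Fin 3) K) S'.inj S'.split
  obtain ⟨g'', hg''⟩ := Cfsg.Agent.H934.MF.diag_map i (C : Matrix (Fin 2) (Fin 2) K) S''.inj S''.split
  refine (((BA.dz hp8 hg).mul hp8 (BB.dz hp8 hg') (BA.comm_range₂ hp8 BB fun a b hab c d hcd x y =>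
    (cm_comm (cmcd a b hab c d hcd) x y).eq)).mul hp8 (BC.dz hp8 hg'')
    (Cfsg.Agent.H482.Ore.Fix.comm_sup (BA.comm_range₂ hp8 BC fun a b hab c d hcd x y =>
      (cm_comm (cmce a b hab c d hcd) x y).eq) (BB.comm_range₂ hp8 BC fun a b hab c d hcd x y =>
      (cm_comm (cmde a b hab c d hcd) x y).eq))).nf hp8 ch fun q hq hk => ?_
  have hB1 := prod_nat S' (by norm_num) (wt chevE8 jd q)
  have hC1 := prod_nat S'' (by norm_num) (wt chevE8 je q)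
  rcases outQ q hq hk with ⟨a, b, hab, hw⟩ | ⟨h0, ⟨a, hw⟩, -⟩
  · rw [mul_assoc]
    refine five_ne S hcop hab hw ?_
    rw [mul_pow, pow_mul, hB1, one_pow, one_mul, mul_comm (Nat.card K ^ 3 - 1), pow_mul, hC1, one_pow]
  · have h1 : ∏ k : Fin 5, (z ^ Nat.card K ^ (k : ℕ)) ^ wt chevE8 jc q k = 1 :=
      Finset.prod_eq_one fun k _ => by rw [h0, zpow_zero]
    have hl0 : ∀ k : Fin 3, v ^ Nat.card K ^ (k : ℕ) ≠ 0 := fun k => pow_ne_zero _ (z0 S' (by norm_num))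
    intro h
    have h' : (∏ k : Fin 5, (z ^ Nat.card K ^ (k : ℕ)) ^ wt chevE8 jc q k) *
        (∏ k : Fin 3, (v ^ Nat.card K ^ (k : ℕ)) ^ wt chevE8 jd q k) *
        ∏ k : Fin 2, (w ^ Nat.card K ^ (k : ℕ)) ^ wt chevE8 je q k = 1 := h
    rw [h1, one_mul] at h'
    have h2 := congrArg (fun t => t ^ (Nat.card K ^ 2 - 1)) h'
    simp only [mul_pow, hC1, mul_one, one_pow] at h2
    rcases hw with hw | hw
    · rw [prod_one hl0 (prod_lam S') hw] at h2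
      exact three_ne S' _ h2
    · rw [prod_inv_one hl0 (prod_lam S') hw, inv_pow] at h2
      exact three_ne S' _ (inv_eq_one.1 h2)

end nf

/-! ### The pairs -/

/-- every product of a lower and an upper unitriangular matrix in `SL_m(K)` is a product of two elements with irreducible
characteristic polynomials and `x ^ k = 1` -/
def PI (m : ℕ) (K : Type*) [Field K] (k : ℕ) : Prop :=
  ∀ L ∈ LT m K, ∀ U ∈ UT m K, ∃ X Y : Matrix.SpecialLinearGroup (Fin m) K, L * U = X * Y ∧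
    (Irreducible (X : Matrix (Fin m) (Fin m) K).charpoly ∧ X ^ k = 1) ∧
    (Irreducible (Y : Matrix (Fin m) (Fin m) K).charpoly ∧ Y ^ k = 1)

theorem PI.of_irr {m : ℕ} {K : Type u} [Field K] [Finite K] (h : ∀ L ∈ LT m K, ∀ U ∈ UT m K,
    ∃ X Y : Matrix.SpecialLinearGroup (Fin m) K, L * U = X * Y ∧
    Irreducible (X : Matrix (Fin m) (Fin m) K).charpoly ∧ Irreducible (Y : Matrix (Fin m) (Fin m) K).charpoly) :
    PI m K (∑ a ∈ Finset.range m, Nat.card K ^ a) := by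
  intro L hL U hU
  obtain ⟨X, Y, e, hX, hY⟩ := h L hL U hU
  exact ⟨X, Y, e, ⟨hX, irr_pow hX⟩, hY, irr_pow hY⟩

variable {K : Type u} [Field K] [Finite K]

/-- **`A₄ A₃`.** -/
theorem pairsP (hcop : (∑ a ∈ Finset.range 5, Nat.card K ^ a).Coprime (Nat.card K ^ 4 - 1)) {k5 k4 : ℕ}
    (h5 : PI 5 K k5) (h4 : PI 4 K k4) (g : ↥(chevE8.group K)) :
    ∃ a b : ↥(chevE8.group K), g = a * b ∧ a ^ (k5 * k4) = 1 ∧ b ^ (k5 * k4) = 1 := by
  refine (pcP K).pairs (Good := fun x => (Irreducible (x.1 : Matrix (Fin 5) (Fin 5) K).charpoly ∧ x.1 ^ k5 = 1) ∧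
      (Irreducible (x.2 : Matrix (Fin 4) (Fin 4) K).charpoly ∧ x.2 ^ k4 = 1)) subP (by norm_num)
    (Cfsg.Agent.S1054.result chevE8 (by simp)) Cfsg.Agent.Nodes.ChevChart.irr8 ?_ ?_ ?_ g
  · rintro ⟨L, L'⟩ ⟨hL, hL'⟩ ⟨U, U'⟩ ⟨hU, hU'⟩
    obtain ⟨X, Y, e, hX, hY⟩ := h5 L hL U hU
    obtain ⟨X', Y', e', hX', hY'⟩ := h4 L' hL' U' hU'
    exact ⟨(X, X'), (Y, Y'), Prod.ext e e', ⟨hX, hX'⟩, hY, hY'⟩
  · rintro ⟨X, Y⟩ ⟨⟨hX, -⟩, hY, -⟩
    exact nfP hcop hX hY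
  · rintro ⟨X, Y⟩ ⟨⟨-, hX⟩, -, hY⟩
    refine Prod.ext ?_ ?_
    · change X ^ (k5 * k4) = 1
      rw [pow_mul, hX, one_pow]
    · change Y ^ (k5 * k4) = 1
      rw [mul_comm, pow_mul, hY, one_pow]

/-- **`A₄ A₂ A₁`.** -/
theorem pairsQ (hcop : (∑ a ∈ Finset.range 5, Nat.card K ^ a).Coprime ((Nat.card K ^ 3 - 1) * (Nat.card K ^ 2 - 1)))
    {k5 k3 k2 : ℕ} (h5 : PI 5 K k5) (h3 : PI 3 K k3) (h2 : PI 2 K k2) (g : ↥(chevE8.group K)) :
    ∃ a b : ↥(chevE8.group K), g = a * b ∧ a ^ (k5 * (k3 * k2)) = 1 ∧ b ^ (k5 * (k3 * k2)) = 1 := by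
  refine (pcQ K).pairs (Good := fun x => (Irreducible (x.1.1 : Matrix (Fin 5) (Fin 5) K).charpoly ∧ x.1.1 ^ k5 = 1) ∧
      (Irreducible (x.1.2 : Matrix (Fin 3) (Fin 3) K).charpoly ∧ x.1.2 ^ k3 = 1) ∧
      (Irreducible (x.2 : Matrix (Fin 2) (Fin 2) K).charpoly ∧ x.2 ^ k2 = 1)) subQ (by norm_num)
    (Cfsg.Agent.S1054.result chevE8 (by simp)) Cfsg.Agent.Nodes.ChevChart.irr8 ?_ ?_ ?_ g
  · rintro ⟨⟨L, L'⟩, L''⟩ ⟨⟨hL, hL'⟩, hL''⟩ ⟨⟨U, U'⟩, U''⟩ ⟨⟨hU, hU'⟩, hU''⟩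
    obtain ⟨X, Y, e, hX, hY⟩ := h5 L hL U hU
    obtain ⟨X', Y', e', hX', hY'⟩ := h3 L' hL' U' hU'
    obtain ⟨X'', Y'', e'', hX'', hY''⟩ := h2 L'' hL'' U'' hU''
    exact ⟨((X, X'), X''), ((Y, Y'), Y''), Prod.ext (Prod.ext e e') e'', ⟨hX, hX', hX''⟩, hY, hY', hY''⟩
  · rintro ⟨⟨X, Y⟩, Z⟩ ⟨⟨hX, -⟩, ⟨hY, -⟩, hZ, -⟩
    exact nfQ hcop hX hY hZ
  · rintro ⟨⟨X, Y⟩, Z⟩ ⟨⟨-, hX⟩, ⟨-, hY⟩, -, hZ⟩
    refine Prod.ext (Prod.ext ?_ ?_) ?_
    · change X ^ (k5 * (k3 * k2)) = 1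
      rw [pow_mul, hX, one_pow]
    · change Y ^ (k5 * (k3 * k2)) = 1
      rw [mul_comm, mul_assoc, pow_mul, hY, one_pow]
    · change Z ^ (k5 * (k3 * k2)) = 1
      rw [mul_comm, mul_comm k3, mul_assoc, pow_mul, hZ, one_pow]

end Cfsg.Agent.H122.Pw
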