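import Cfsg.Agent.H122.Pw.Pc

/-!
# Products of eigenvalues (helper122, S2465, `E_8(3)`, `E_8(4)`, `E_8(9)`)
-/

set_option autoImplicit false
set_option linter.unusedSectionVars false

namespace Cfsg.Agent.H122.Pw

open Cfsg.Agent.H194.Pw

universe u

variable {K : Type u} {K' : Type u} [Field K] [Finite K] [Field K'] {i : K →+* K'} {n : ℕ} {g : Polynomial K} {z : K'}

theorem add_mul (S : Spec i n g z) (a : ℕ) : z ^ Nat.card K ^ (a + n) = z ^ Nat.card K ^ a := by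
  rw [add_comm, pow_add, pow_mul, S.fix]

theorem mod (S : Spec i n g z) (a : ℕ) : z ^ Nat.card K ^ a = z ^ Nat.card K ^ (a % n) := by
  have h : ∀ k b : ℕ, z ^ Nat.card K ^ (b + n * k) = z ^ Nat.card K ^ b := by
    intro k
    induction k with
    | zero => intro b; rfl
    | succ k ih => intro b; rw [Nat.mul_succ, ← add_assoc, add_mul S, ih]
  conv_lhs => rw [← Nat.mod_add_div a n]
  rw [h]

theorem eq_iff (S : Spec i n g z) (hn : 0 < n) {a b : ℕ} (h : z ^ Nat.card K ^ a = z ^ Nat.card K ^ b) :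
    a % n = b % n := by
  rw [mod S a, mod S b] at h
  have h1 := @S.inj ⟨a % n, Nat.mod_lt _ hn⟩ ⟨b % n, Nat.mod_lt _ hn⟩ h
  exact congrArg Fin.val h1

theorem z0 (S : Spec i n g z) (hn : 0 < n) : z ≠ 0 := S.ne_zero hn Nat.card_pos

/-- an eigenvalue is not in the ground field -/
theorem ne_q (S : Spec i n g z) (hn : 2 ≤ n) (a : ℕ) : (z ^ Nat.card K ^ a) ^ Nat.card K ≠ z ^ Nat.card K ^ a := by
  intro h
  rw [← pow_mul, ← pow_succ] at h
  have h1 := eq_iff S (by omega) h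
  have h2 : (a + 1) % n = a % n := h1
  have h3 := Nat.mod_add_div a n
  have h4 := Nat.mod_add_div (a + 1) n
  have h5 : n ∣ 1 := by
    have h6 : (a + 1) ≡ a [MOD n] := h2
    exact (Nat.modEq_iff_dvd' (by omega)).1 h6.symm |> fun h => by simpa using h
  have := Nat.dvd_one.1 h5
  omega

theorem ne_one (S : Spec i n g z) (hn : 2 ≤ n) (a : ℕ) : z ^ Nat.card K ^ a ≠ 1 := by
  intro h
  apply ne_q S hn a
  rw [h, one_pow]

theorem pow_card (S : Spec i n g z) (hn : 0 < n) (a : ℕ) : (z ^ Nat.card K ^ a) ^ (Nat.card K ^ n - 1) = 1 := by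
  have h0 : z ^ Nat.card K ^ a ≠ 0 := pow_ne_zero _ (z0 S hn)
  have hq : 1 ≤ Nat.card K ^ n := Nat.one_le_pow _ _ Nat.card_pos
  have h1 : (z ^ Nat.card K ^ a) ^ Nat.card K ^ n = z ^ Nat.card K ^ a := by
    rw [← pow_mul, ← pow_add, add_mul S]
  have h2 : (z ^ Nat.card K ^ a) ^ (Nat.card K ^ n - 1) * z ^ Nat.card K ^ a = 1 * z ^ Nat.card K ^ a := by
    rw [← pow_succ, Nat.sub_add_cancel hq, h1, one_mul]
  exact mul_right_cancel₀ h0 h2

theorem pow_norm (S : Spec i n g z) (a : ℕ) : (z ^ Nat.card K ^ a) ^ (∑ a ∈ Finset.range n, Nat.card K ^ a) = 1 := by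
  rw [← pow_mul, mul_comm, pow_mul, S.norm, one_pow]

/-- degree three: not in the field with `q²` elements -/
theorem three_ne (S : Spec i 3 g z) (a : ℕ) : (z ^ Nat.card K ^ a) ^ (Nat.card K ^ 2 - 1) ≠ 1 := by
  intro h
  have h0 : z ^ Nat.card K ^ a ≠ 0 := pow_ne_zero _ (z0 S (by norm_num))
  have hq : 1 ≤ Nat.card K ^ 2 := Nat.one_le_pow _ _ Nat.card_pos
  have h1 : (z ^ Nat.card K ^ a) ^ Nat.card K ^ 2 = z ^ Nat.card K ^ a := by
    have h2 : (z ^ Nat.card K ^ a) ^ (Nat.card K ^ 2 - 1) * z ^ Nat.card K ^ a = 1 * z ^ Nat.card K ^ a := by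
      rw [h]
    rwa [← pow_succ, Nat.sub_add_cancel hq, one_mul] at h2
  rw [← pow_mul, ← pow_add] at h1
  have := eq_iff S (by norm_num) h1
  omega

/-! ### Products -/

theorem prod_one {F : Type*} [Field F] {n : ℕ} {lam : Fin n → F} (h0 : ∀ k, lam k ≠ 0) (h1 : ∏ k, lam k = 1) {a : Fin n}
    {w : Fin n → ℤ} {c : ℤ} (hw : ∀ k, w k = (if k = a then 1 else 0) - c) : ∏ k, lam k ^ w k = lam a := by
  have h2 : ∀ k, lam k ^ w k = lam k ^ (if k = a then (1 : ℤ) else 0) * lam k ^ (-c) := fun k => by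
    rw [hw, sub_eq_add_neg, zpow_add₀ (h0 k)]
  rw [Finset.prod_congr rfl fun k _ => h2 k, Finset.prod_mul_distrib, Finset.prod_zpow, h1, one_zpow, mul_one,
    Finset.prod_eq_single a]
  · rw [if_pos rfl, zpow_one]
  · intro b _ hb
    rw [if_neg hb, zpow_zero]
  · intro h
    exact absurd (Finset.mem_univ a) h

theorem prod_inv_one {F : Type*} [Field F] {n : ℕ} {lam : Fin n → F} (h0 : ∀ k, lam k ≠ 0) (h1 : ∏ k, lam k = 1)
    {a : Fin n} {w : Fin n → ℤ} {c : ℤ} (hw : ∀ k, w k = -(if k = a then 1 else 0) + c) :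
    ∏ k, lam k ^ w k = (lam a)⁻¹ := by
  have h2 : ∏ k, lam k ^ (-w k) = lam a := prod_one (c := c) h0 h1 fun k => by rw [hw]; ring
  rw [← h2, ← Finset.prod_inv_distrib]
  refine Finset.prod_congr rfl fun k _ => ?_
  rw [zpow_neg, inv_inv]

theorem prod_lam (S : Spec i n g z) : ∏ k : Fin n, z ^ Nat.card K ^ (k : ℕ) = 1 := by
  rw [Finset.prod_pow_eq_pow_sum, Fin.sum_univ_eq_sum_range (fun a => Nat.card K ^ a) n]
  exact S.norm

theorem prod_pow_one {F : Type*} [Field F] {n : ℕ} {lam : Fin n → F} {N : ℕ} (h : ∀ k, lam k ^ N = 1) (w : Fin n → ℤ) :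
    (∏ k, lam k ^ w k) ^ N = 1 := by
  rw [← Finset.prod_pow]
  refine Finset.prod_eq_one fun k _ => ?_
  rw [← zpow_natCast, ← zpow_mul, mul_comm, zpow_mul, zpow_natCast, h, one_zpow]

/-- **The block of type `A₄`.** -/
theorem five_ne (S : Spec i 5 g z) {N : ℕ} (hN : (∑ a ∈ Finset.range 5, Nat.card K ^ a).Coprime N) {w : Fin 5 → ℤ}
    {a b : Fin 5} (hab : a ≤ b) (hw : (∀ k, w k = ind a b k - ind a b 4) ∨ ∀ k, w k = -ind a b k + ind a b 4)
    {y : K'} (hy : y ^ N = 1) : (∏ k : Fin 5, (z ^ Nat.card K ^ (k : ℕ)) ^ w k) * y ≠ 1 := by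
  intro h
  have hl0 : ∀ k : Fin 5, z ^ Nat.card K ^ (k : ℕ) ≠ 0 := fun k => pow_ne_zero _ (z0 S (by norm_num))
  obtain ⟨v, hv⟩ : ∃ v : K', v = if a = b then z ^ Nat.card K ^ (a : ℕ) else
    z ^ Nat.card K ^ (a : ℕ) * z ^ Nat.card K ^ (b : ℕ) := ⟨_, rfl⟩
  have hv2 : v ^ (Nat.card K ^ 2 - 1) ≠ 1 := by
    rw [hv]
    split_ifs with hab'
    · exact S.one_ne _
    · exact S.two_ne (lt_of_le_of_ne hab fun h' => hab' (Fin.ext h')) b.2
  have hs : v ^ (∑ a ∈ Finset.range 5, Nat.card K ^ a) = 1 := by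
    rw [hv]
    split_ifs
    · exact pow_norm S _
    · rw [mul_pow, pow_norm S, pow_norm S, one_mul]
  have hvN : v ^ N = 1 := by
    rcases hw with hw | hw
    · have h1 : ∏ k : Fin 5, (z ^ Nat.card K ^ (k : ℕ)) ^ w k = v := by
        rw [hv]
        exact prod_wt (c := ind a b 4) hl0 (prod_lam S) hw
      rw [h1] at h
      have h2 := congrArg (fun t => t ^ N) h
      simp only [mul_pow, hy, mul_one, one_pow] at h2
      exact h2
    · have h1 : ∏ k : Fin 5, (z ^ Nat.card K ^ (k : ℕ)) ^ (-w k) = v := by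
        rw [hv]
        exact prod_wt (c := ind a b 4) hl0 (prod_lam S) fun k => by rw [hw]; ring
      have h3 : ∏ k : Fin 5, (z ^ Nat.card K ^ (k : ℕ)) ^ w k = v⁻¹ := by
        rw [← h1, ← Finset.prod_inv_distrib]
        refine Finset.prod_congr rfl fun k _ => ?_
        rw [zpow_neg, inv_inv]
      rw [h3] at h
      have h2 := congrArg (fun t => t ^ N) h
      simp only [mul_pow, hy, mul_one, one_pow, inv_pow] at h2
      exact inv_eq_one.1 h2
  have h1 : orderOf v = 1 := by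
    have h2 := Nat.dvd_gcd (orderOf_dvd_of_pow_eq_one hs) (orderOf_dvd_of_pow_eq_one hvN)
    rw [hN] at h2
    exact Nat.dvd_one.1 h2
  apply hv2
  rw [orderOf_eq_one_iff.1 h1, one_pow]

end Cfsg.Agent.H122.Pw
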