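import Cfsg.Agent.H122.Pw.FourThree
import Cfsg.Agent.H122.Pw.Corner
import Cfsg.Agent.H126.PwO.FiveThree

/-!
# `SL_5(3)` and `SL_4(3)`: products of two elements of order `11` resp. `5` (helper122, S2465)

* `five` : every element of `SL_5(3)` is `X Y`, `X ^ 11 = Y ^ 11 = 1`, with irreducible characteristic polynomials;
* `four` : the same for the elements of `SL_4(3)` which are neither `-1` nor transvections, and order `5`.
-/

set_option autoImplicit false

namespace Cfsg.Agent.H122.Pw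

open Matrix Polynomial Cfsg.Agent.H934.MF Cfsg.Agent.H126.PwO.Cert

section

variable {F : Type*} [Field F]

/-- the reciprocal polynomial of `Five.pF` -/
noncomputable def pH (F : Type*) [Field F] : F[X] := X ^ 5 + X ^ 4 + 2 * X ^ 3 + X ^ 2 + 2

/-- lower coefficients -/
def lH : List ℕ := [2, 0, 1, 2, 1]

theorem mono_eqH : mono (lH.map fun b : ℕ => (b : F)) = pH F := by
  rw [lH, pH]
  simp only [List.map_cons, List.map_nil, mono, List.cons_append, List.nil_append, toP]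
  simp only [Nat.cast_ofNat, Nat.cast_one, Nat.cast_zero, map_ofNat, map_one, map_zero]
  ring

theorem pH_dvd [CharP F 3] : pH F ∣ X ^ 11 - 1 := by
  refine ⟨X ^ 6 + 2 * X ^ 5 + 2 * X ^ 4 + 2 * X ^ 3 + X ^ 2 + 1, ?_⟩
  rw [pH]
  linear_combination (-(1 + X ^ 2 + 2 * X ^ 3 + 2 * X ^ 4 + 3 * X ^ 5 + 3 * X ^ 6 + 3 * X ^ 7 + 3 * X ^ 8 + 2 * X ^ 9 +
    X ^ 10)) * Four.three (F := F)

theorem pH_monic : (pH F).Monic := by
  rw [← mono_eqH]; exact mono_monic _

theorem pH_deg : (pH F).natDegree = 5 := by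
  rw [← mono_eqH, mono_natDegree]; rfl

theorem pH_irr [Finite F] (hF : Nat.card F = 3) [CharP F 3] : Irreducible (pH F) := by
  have : Fintype F := Fintype.ofFinite F
  have hF' : Fintype.card F = 3 := by rw [← Nat.card_eq_fintype_card, hF]
  refine irr_of_pow pH_monic pH_deg (by norm_num) (N := 11) (e := 1) (by norm_num) pH_dvd ?_ ?_
  · rw [pow_one, ← C_1]
    apply IsCoprime.symm
    rw [(irreducible_X_sub_C (1 : F)).coprime_iff_not_dvd, dvd_iff_isRoot]
    intro h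
    rw [IsRoot.def, pH] at h
    simp only [eval_add, eval_mul, eval_pow, eval_X, eval_ofNat, one_pow] at h
    have h3 : (3 : F) = 0 := by
      have : ((3 : ℕ) : F) = 0 := CharP.cast_eq_zero F 3
      exact_mod_cast this
    exact one_ne_zero (α := F) (by linear_combination h - 2 * h3)
  · intro m h1 h2
    rw [hF']
    have : m = 1 ∨ m = 2 := by omega
    rcases this with rfl | rfl <;> norm_num

/-- the companion matrix and its inverse -/
theorem five_one [Finite F] (hF : Nat.card F = 3) : ∃ X Y : Matrix (Fin 5) (Fin 5) F, 1 = X * Y ∧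
    X.charpoly = H126.PwO.Five.pF F ∧ Y.charpoly = pH F := by
  have : Fact (Nat.Prime 3) := ⟨Nat.prime_three⟩
  obtain ⟨hch, -⟩ := H374.Ore.Sl3.exists_cast (K := F) hF
  obtain ⟨x, hx⟩ : ∃ x : List (List ℕ), x = [[0, 1, 0, 0, 0], [0, 0, 1, 0, 0], [0, 0, 0, 1, 0], [0, 0, 0, 0, 1], [1, 1, 2, 1, 0]] :=
    ⟨_, rfl⟩
  obtain ⟨y, hy⟩ : ∃ y : List (List ℕ), y = [[2, 1, 2, 0, 1], [1, 0, 0, 0, 0], [0, 1, 0, 0, 0], [0, 0, 1, 0, 0], [0, 0, 0, 1, 0]] :=
    ⟨_, rfl⟩
  have hxw : WF 5 x := by rw [hx, WF]; decide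
  have hyw : WF 5 y := by rw [hy, WF]; decide
  have h1 : mulR 3 5 x y = [[1, 0, 0, 0, 0], [0, 1, 0, 0, 0], [0, 0, 1, 0, 0], [0, 0, 0, 1, 0], [0, 0, 0, 0, 1]] := by
    rw [hx, hy]; decide +kernel
  have h2 : kr 3 5 x H126.PwO.Five.lF (e1 5) (z0 5) = true := by rw [hx]; decide +kernel
  have h3 : kr 3 5 y lH (e1 5) (z0 5) = true := by rw [hy]; decide +kernel
  have hirr : Irreducible (mono (H126.PwO.Five.lF.map fun b : ℕ => (b : F))) := by
    rw [H126.PwO.Five.mono_eq]; exact H126.PwO.Five.pF_irr hF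
  have hirrH : Irreducible (mono (lH.map fun b : ℕ => (b : F))) := by rw [mono_eqH]; exact pH_irr hF
  refine ⟨mat F 5 x, mat F 5 y, ?_, ?_, ?_⟩
  · rw [← mat_mulR (p := 3) hxw hyw, h1]
    ext i j
    fin_cases i <;> fin_cases j <;> simp [mat, g]
  · rw [← H126.PwO.Five.mono_eq]
    exact charpoly_of_kr (by norm_num) hxw rfl (by decide) hirr h2
  · rw [← mono_eqH]
    exact charpoly_of_kr (by norm_num) hyw rfl (by decide) hirrH h3

/-- matrices from a polynomial dividing `X ^ N - 1` -/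
theorem pow_of_dvd {n N : ℕ} {M : Matrix (Fin n) (Fin n) F} {f : F[X]} (h : M.charpoly = f) (hd : f ∣ X ^ N - 1) :
    M ^ N = 1 := by
  obtain ⟨q, hq⟩ := hd
  have h1 := congrArg (aeval M) hq
  rw [map_mul, ← h, Matrix.aeval_self_charpoly, zero_mul, map_sub, map_pow, aeval_X, map_one, sub_eq_zero] at h1
  exact h1

end

universe u

variable {K : Type u} [Field K] [Finite K]

/-- **`SL_5(3)`.** -/
theorem five (hK : Nat.card K = 3) (A : SpecialLinearGroup (Fin 5) K) : ∃ X Y : SpecialLinearGroup (Fin 5) K, A = X * Y ∧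
    (Irreducible (X : Matrix (Fin 5) (Fin 5) K).charpoly ∧ X ^ 11 = 1) ∧
    (Irreducible (Y : Matrix (Fin 5) (Fin 5) K).charpoly ∧ Y ^ 11 = 1) := by
  have : Fact (Nat.Prime 3) := ⟨Nat.prime_three⟩
  obtain ⟨hch, hall⟩ := H374.Ore.Sl3.exists_cast (K := K) hK
  have h3 : (3 : K) = 0 := by
    have : ((3 : ℕ) : K) = 0 := CharP.cast_eq_zero K 3
    exact_mod_cast this
  have key : ∃ X Y : Matrix (Fin 5) (Fin 5) K, A.1 = X * Y ∧ X.charpoly = H126.PwO.Five.pF K ∧
      (Y.charpoly = H126.PwO.Five.pF K ∨ Y.charpoly = pH K) := by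
    by_cases hs : ∀ c : K, A.1 ≠ c • (1 : Matrix (Fin 5) (Fin 5) K)
    · obtain ⟨X, Y, h1, h2, h4⟩ := H126.PwO.Five.p5_3 hK A.1 A.2 hs
      exact ⟨X, Y, h1, h2, Or.inl h4⟩
    · push Not at hs
      obtain ⟨c, hc⟩ := hs
      have hd : c ^ 5 = 1 := by
        have h1 := A.2
        rw [hc, Matrix.det_smul, Matrix.det_one, mul_one, Fintype.card_fin] at h1
        exact h1
      have hc1 : c = 1 := by
        obtain ⟨k, hk, rfl⟩ := hall c
        interval_cases k
        · norm_num at hd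
        · norm_num
        · exfalso
          have h5 : (2 : K) ^ 5 = 1 := by exact_mod_cast hd
          exact one_ne_zero (α := K) (by linear_combination h5 - 10 * h3)
      obtain ⟨X, Y, h1, h2, h4⟩ := five_one (F := K) hK
      refine ⟨X, Y, ?_, h2, Or.inr h4⟩
      rw [hc, hc1, one_smul]
      exact h1
  obtain ⟨X, Y, h1, h2, h4⟩ := key
  have hX : X.det = 1 := by
    rw [det_eq_sign_charpoly_coeff, h2, Fintype.card_fin, H126.PwO.Five.pF]
    simp only [coeff_add, coeff_X_pow, coeff_ofNat_mul, coeff_X, coeff_ofNat_zero]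
    norm_num
    linear_combination (-1 : K) * h3
  have hY : Y.det = 1 := by
    have h5 := congrArg Matrix.det h1
    rw [Matrix.det_mul, hX, one_mul, A.2] at h5
    exact h5.symm
  refine ⟨⟨X, hX⟩, ⟨Y, hY⟩, Subtype.ext h1, ⟨?_, ?_⟩, ?_, ?_⟩
  · change Irreducible X.charpoly
    rw [h2]; exact H126.PwO.Five.pF_irr hK
  · apply Subtype.ext
    change X ^ 11 = 1
    exact pow_of_dvd h2 H126.PwO.Five.pF_dvd
  · change Irreducible Y.charpoly
    rcases h4 with h4 | h4
    · rw [h4]; exact H126.PwO.Five.pF_irr hK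
    · rw [h4]; exact pH_irr hK
  · apply Subtype.ext
    change Y ^ 11 = 1
    rcases h4 with h4 | h4
    · exact pow_of_dvd h4 H126.PwO.Five.pF_dvd
    · exact pow_of_dvd h4 pH_dvd

/-- **`SL_4(3)`.** -/
theorem four (hK : Nat.card K = 3) (A : SpecialLinearGroup (Fin 4) K) (hA : Cor.Gd A.1) :
    ∃ X Y : SpecialLinearGroup (Fin 4) K, A = X * Y ∧
    (Irreducible (X : Matrix (Fin 4) (Fin 4) K).charpoly ∧ X ^ 5 = 1) ∧
    (Irreducible (Y : Matrix (Fin 4) (Fin 4) K).charpoly ∧ Y ^ 5 = 1) := by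
  have : Fact (Nat.Prime 3) := ⟨Nat.prime_three⟩
  obtain ⟨hch, -⟩ := H374.Ore.Sl3.exists_cast (K := K) hK
  obtain ⟨X, Y, h1, h2, h4⟩ := Four.p4_3 hK A.1 A.2 hA.1 hA.2
  have hd : ∀ M : Matrix (Fin 4) (Fin 4) K, M.charpoly = Four.pF K → M.det = 1 := by
    intro M hM
    rw [det_eq_sign_charpoly_coeff, hM, Fintype.card_fin, Four.pF]
    simp
    norm_num
  refine ⟨⟨X, hd X h2⟩, ⟨Y, hd Y h4⟩, Subtype.ext h1, ⟨?_, ?_⟩, ?_, ?_⟩
  · change Irreducible X.charpoly
    rw [h2]; exact Four.pF_irr hK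
  · apply Subtype.ext
    change X ^ 5 = 1
    exact pow_of_dvd h2 Four.pF_dvd
  · change Irreducible Y.charpoly
    rw [h4]; exact Four.pF_irr hK
  · apply Subtype.ext
    change Y ^ 5 = 1
    exact pow_of_dvd h4 Four.pF_dvd

end Cfsg.Agent.H122.Pw
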