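import Cfsg.Agent.H122.Pw.Six8
import Cfsg.Agent.H122.Pw.FiveFour

/-!
# `E₈(3)`: products of two elements of order prime to `6` (helper122, S2465)

The Levi subgroups of type `A₇` (nodes `1, 3, 4, 5, 6, 7, 8`) and `A₄ A₃` (without node `5`).  `six_E8_three'`.
-/

set_option autoImplicit false
set_option linter.unusedSectionVars false

namespace Cfsg.Agent.H122.Pw

open CoxeterSystem Cfsg.Agent.ChevalleyStructure.CoxeterGeom Cfsg.Agent.Tits.Roots Cfsg.Agent.Tits.Core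
  Cfsg.Agent.Nodes.Reps Cfsg.Agent.Nodes.BNOf Cfsg.Agent.Nodes.RGDLib Cfsg.Agent.Nodes.Bruhat
  Cfsg.Agent.Nodes.OppDec Cfsg.Agent.Nodes.LeviDec Cfsg.Agent.Nodes.KindChev Cfsg.Agent.Nodes.ChevCls
  Cfsg.Agent.OddHalf.NI.ModelChev Cfsg.Agent.Nodes.StabComb
  Cfsg.Agent.H162.GaussDec Cfsg.Agent.H162.GaussLevi Cfsg.Agent.H162.GaussSL Cfsg.Agent.H162.GaussReg
  Cfsg.Agent.H162.GaussPQ
  Cfsg.Agent.H928.Ore.Frame
open Cfsg.Lie Cfsg.Agent.ChevalleyStructure Cfsg.Agent.ChevalleyStructure.Elts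
  Cfsg.Agent.ChevalleyStructure.RootVec Cfsg.Agent.ChevalleyStructure.NPerm
  Cfsg.Agent.ChevalleyStructure.CoxeterGeomTypes Cfsg.Agent.Nodes.RGDChev Cfsg.Agent.KFacts.RgdChevCoord
open Cfsg.Agent.FixBN.FieldRGD (uu vv dd ww)
open Cfsg.Agent.TitsThree.KExcRT Cfsg.Agent.AGraded
open Cfsg.Agent.H78.Pw Cfsg.Agent.H85.Pw Cfsg.Agent.H194.Pw
open Cfsg.Agent.H150.E6T (le_of_gen)
open Cfsg.Agent.H162.GaussExc (coord)
open scoped MatrixGroups

universe u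

/-! ### The table of type `A₇` -/

/-- nodes `1, 3, 4, 5, 6, 7, 8` -/
def r8 : Fin 8 → Fin 8 → ℕ :=
  ![![0, 162, 163, 164, 165, 166, 167, 168], ![77, 0, 135, 136, 137, 138, 139, 140], ![76, 104, 0, 130, 131, 132, 133, 134],
    ![75, 103, 109, 0, 126, 127, 128, 129], ![74, 102, 108, 113, 0, 123, 124, 125], ![73, 101, 107, 112, 116, 0, 121, 122],
    ![72, 100, 106, 111, 115, 118, 0, 120], ![71, 99, 105, 110, 114, 117, 119, 0]]

/-- signs -/
def s8 : Fin 8 → Fin 8 → ℤ :=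
  ![![1, 1, -1, 1, -1, 1, -1, 1], ![1, 1, 1, -1, 1, -1, 1, -1], ![-1, 1, 1, 1, -1, 1, -1, 1], ![1, -1, 1, 1, 1, -1, 1, -1],
    ![-1, 1, -1, 1, 1, 1, -1, 1], ![1, -1, 1, -1, 1, 1, 1, -1], ![-1, 1, -1, 1, -1, 1, 1, 1], ![1, -1, 1, -1, 1, -1, 1, 1]]

theorem rt8 : RTa chevE8 r8 ∧ RTb chevE8 r8 s8 ∧ RTc chevE8 r8 ∧ RTd s8 ∧ (∀ i j, s8 j i = s8 i j) ∧
    ∀ i j, i ≠ j → r8 j i = chevE8.neg (r8 i j) := by decide +kernel

/-- `A₇` -/
def J7 : List (Fin 8) := [0, 2, 3, 4, 5, 6, 7]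

theorem r8J : ∀ a b : Fin 8, a ≠ b → ∀ k : Fin 8, k ∉ J7 → vec chevE8 8 (r8 a b) k = 0 := by decide +kernel

theorem sub7 : ∀ q < chevE8.nroots, (∀ k : Fin 8, k ∉ J7 → vec chevE8 8 q k = 0) → Qb r8 q := by
  intro q hq
  revert q
  refine @of_decide_eq_true _ ?_ ?_
  · refine @Nat.decidableBallLT _ _ fun q _ => ?_
    infer_instance
  · decide +kernel

/-- the splitting of the indices -/
def e8 : Fin 4 ⊕ Fin 4 ≃ Fin 8 := finSumFinEquiv

/-- a root of the first block -/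
def Ra (q : ℕ) : Prop := ∃ a b : Fin 5, a ≠ b ∧ ra a b = q

instance decRa (q : ℕ) : Decidable (Ra q) := by
  unfold Ra
  refine @Fintype.decidableExistsFintype _ _ (fun a => ?_) _
  refine @Fintype.decidableExistsFintype _ _ (fun b => ?_) _
  infer_instance

theorem out7n : ∀ q < chevE8.nroots, (∃ k : Fin 8, k ∉ J7 ∧ vec chevE8 8 q k < 0) →
    (∃ k : Fin 8, k ∉ JP ∧ vec chevE8 8 q k < 0) ∨ Ra q := by
  intro q hq
  revert q
  refine @of_decide_eq_true _ ?_ ?_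
  · refine @Nat.decidableBallLT _ _ fun q _ => ?_
    infer_instance
  · decide +kernel

theorem out7p : ∀ q < chevE8.nroots, (∃ k : Fin 8, k ∉ J7 ∧ 0 < vec chevE8 8 q k) →
    (∃ k : Fin 8, k ∉ JP ∧ 0 < vec chevE8 8 q k) ∨ Ra q := by
  intro q hq
  revert q
  refine @of_decide_eq_true _ ?_ ?_
  · refine @Nat.decidableBallLT _ _ fun q _ => ?_
    infer_instance
  · decide +kernel

theorem r8_R : ∀ a b : Fin 4, a ≠ b → r8 (e8 (Sum.inr a)) (e8 (Sum.inr b)) = rb a b ∧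
    s8 (e8 (Sum.inr a)) (e8 (Sum.inr b)) = sb a b := by decide +kernel

theorem r8_L : ∀ a b : Fin 4, a ≠ b → Ra (r8 (e8 (Sum.inl a)) (e8 (Sum.inl b))) := by decide +kernel

theorem r8_low : ∀ a b : Fin 4, vec chevE8 8 (r8 (e8 (Sum.inr a)) (e8 (Sum.inl b))) 4 < 0 := by decide +kernel

theorem r8_up : ∀ a b : Fin 4, 0 < vec chevE8 8 (r8 (e8 (Sum.inl a)) (e8 (Sum.inr b))) 4 := by decide +kernel

theorem not4 : (4 : Fin 8) ∉ JP := by decide

theorem ra_ne : ∀ a b : Fin 5, a ≠ b → ra a b < chevE8.nroots := rta.1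

/-! ### Homomorphisms -/

section Hom

theorem exists_p8 (K : Type u) [Field K] : ∃ φ : Matrix.SpecialLinearGroup (Fin 8) K →* ↥(chevE8.group K),
    ∀ a b (hab : a ≠ b) c, φ (Matrix.SpecialLinearGroup.transvection hab c) =
      xc hp8 (vec chevE8 8 (r8 a b)) ((s8 a b : K) * c) :=
  exists_hom_S hp8 rt8.1 rt8.2.1 rt8.2.2.1 rt8.2.2.2.1 rt8.2.2.2.2.1 rt8.2.2.2.2.2

variable (K : Type u) [Field K]

noncomputable def p8 : Matrix.SpecialLinearGroup (Fin 8) K →* ↥(chevE8.group K) := (exists_p8 K).choose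

theorem p8_tv (a b : Fin 8) (hab : a ≠ b) (c : K) : p8 K (Matrix.SpecialLinearGroup.transvection hab c) =
    xc hp8 (vec chevE8 8 (r8 a b)) ((s8 a b : K) * c) := (exists_p8 K).choose_spec a b hab c

theorem pc7 : Pc hp8 K {k | k ∈ J7} (p8 K) (LT 8 K) (UT 8 K) (Qb r8) :=
  Pc.block (p8_tv K) rt8.1 r8J rt8.2.2.2.1

/-- reindexing -/
def Re : Matrix.SpecialLinearGroup (Fin 4 ⊕ Fin 4) K →* Matrix.SpecialLinearGroup (Fin 8) K where
  toFun A := ⟨Matrix.reindex e8 e8 A.1, by rw [Matrix.det_reindex_self]; exact A.2⟩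
  map_one' := by
    apply Subtype.ext
    change Matrix.reindex e8 e8 1 = 1
    rw [Matrix.reindex_apply, Matrix.submatrix_one_equiv]
  map_mul' A B := by
    apply Subtype.ext
    change Matrix.reindex e8 e8 (A.1 * B.1) = Matrix.reindex e8 e8 A.1 * Matrix.reindex e8 e8 B.1
    rw [Matrix.reindex_apply, Matrix.reindex_apply, Matrix.reindex_apply, Matrix.submatrix_mul_equiv]

/-- back -/
def Ri (A : Matrix.SpecialLinearGroup (Fin 8) K) : Matrix.SpecialLinearGroup (Fin 4 ⊕ Fin 4) K :=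
  ⟨A.1.submatrix e8 e8, by rw [Matrix.det_submatrix_equiv_self]; exact A.2⟩

variable {K}

theorem Re_Ri (A : Matrix.SpecialLinearGroup (Fin 8) K) : Re K (Ri K A) = A := by
  apply Subtype.ext
  change Matrix.reindex e8 e8 (A.1.submatrix e8 e8) = A.1
  rw [Matrix.reindex_apply, Matrix.submatrix_submatrix]
  simp

theorem Re_inj {A B : Matrix.SpecialLinearGroup (Fin 4 ⊕ Fin 4) K} (h : Re K A = Re K B) : A = B := by
  apply Subtype.ext
  have h1 : Matrix.reindex e8 e8 A.1 = Matrix.reindex e8 e8 B.1 := congrArg Subtype.val h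
  exact (Matrix.reindex e8 e8).injective h1

theorem Re_tv {a b : Fin 4 ⊕ Fin 4} (hab : a ≠ b) (c : K) : Re K (Matrix.SpecialLinearGroup.transvection hab c) =
    Matrix.SpecialLinearGroup.transvection (e8.injective.ne hab) c := by
  apply Subtype.ext
  change Matrix.reindex e8 e8 (Matrix.transvection a b c) = Matrix.transvection (e8 a) (e8 b) c
  ext i j
  rw [Matrix.reindex_apply, Matrix.submatrix_apply, Matrix.transvection, Matrix.transvection, Matrix.add_apply,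
    Matrix.add_apply, Matrix.one_apply, Matrix.one_apply, Matrix.single_apply, Matrix.single_apply]
  simp only [Equiv.eq_symm_apply, Equiv.apply_symm_apply]

variable (K)

/-- the block matrices in the group -/
noncomputable def Ps : Matrix.SpecialLinearGroup (Fin 4 ⊕ Fin 4) K →* ↥(chevE8.group K) := (p8 K).comp (Re K)

theorem Ps_tv {a b : Fin 4 ⊕ Fin 4} (hab : a ≠ b) (c : K) : Ps K (Matrix.SpecialLinearGroup.transvection hab c) =
    xc hp8 (vec chevE8 8 (r8 (e8 a) (e8 b))) ((s8 (e8 a) (e8 b) : K) * c) := by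
  rw [Ps, MonoidHom.comp_apply, Re_tv, p8_tv]

theorem dR_tv {a b : Fin 4} (hab : a ≠ b) (c : K) : Cor.dR (Matrix.SpecialLinearGroup.transvection hab c) =
    Matrix.SpecialLinearGroup.transvection (Sum.inr_injective.ne hab : (Sum.inr a : Fin 4 ⊕ Fin 4) ≠ Sum.inr b) c := by
  apply Subtype.ext
  change Matrix.fromBlocks 1 0 0 (Matrix.transvection a b c) = Matrix.transvection (Sum.inr a) (Sum.inr b) c
  ext i j
  rcases i with i | i <;> rcases j with j | j <;>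
    simp [Matrix.transvection, Matrix.one_apply, Matrix.single_apply]

theorem dL_tv {a b : Fin 4} (hab : a ≠ b) (c : K) : Cor.dL (Matrix.SpecialLinearGroup.transvection hab c) =
    Matrix.SpecialLinearGroup.transvection (Sum.inl_injective.ne hab : (Sum.inl a : Fin 4 ⊕ Fin 4) ≠ Sum.inl b) c := by
  apply Subtype.ext
  change Matrix.fromBlocks (Matrix.transvection a b c) 0 0 1 = Matrix.transvection (Sum.inl a) (Sum.inl b) c
  ext i j
  rcases i with i | i <;> rcases j with j | j <;>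
    simp [Matrix.transvection, Matrix.one_apply, Matrix.single_apply]

theorem Ps_dR (A : Matrix.SpecialLinearGroup (Fin 4) K) : Ps K (Cor.dR A) = pb K A := by
  have h := le_of_gen (MonoidHom.id (Matrix.SpecialLinearGroup (Fin 4) K)) (((Ps K).comp Cor.dR).eqLocus (pb K))
    (fun a b hab c => by
      change Ps K (Cor.dR (Matrix.SpecialLinearGroup.transvection hab c)) = pb K (Matrix.SpecialLinearGroup.transvection hab c)
      rw [dR_tv, Ps_tv, pb_tv, (r8_R a b hab).1, (r8_R a b hab).2]) A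
  exact h

theorem mem_pa {q : ℕ} (hq : Ra q) (c : K) : xc hp8 (vec chevE8 8 q) c ∈ (pa K).range := by
  obtain ⟨a, b, hab, rfl⟩ := hq
  refine ⟨Matrix.SpecialLinearGroup.transvection hab ((sa a b : K) * c), ?_⟩
  rw [pa_tv, ← mul_assoc, ← Int.cast_mul, rta.2.2.2.1, Int.cast_one, one_mul]

theorem Ps_dL (A : Matrix.SpecialLinearGroup (Fin 4) K) : Ps K (Cor.dL A) ∈ (pa K).range :=
  le_of_gen ((Ps K).comp Cor.dL) _ (fun a b hab c => by
    change Ps K (Cor.dL (Matrix.SpecialLinearGroup.transvection hab c)) ∈ _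
    rw [dL_tv, Ps_tv]
    exact mem_pa K (r8_L a b hab) _) A

theorem low_single (a b : Fin 4) (c : K) : Cor.low (Matrix.single a b c) =
    Matrix.SpecialLinearGroup.transvection (Sum.inr_ne_inl : (Sum.inr a : Fin 4 ⊕ Fin 4) ≠ Sum.inl b) c := by
  apply Subtype.ext
  change Matrix.fromBlocks 1 0 (Matrix.single a b c) 1 = Matrix.transvection (Sum.inr a) (Sum.inl b) c
  ext i j
  rcases i with i | i <;> rcases j with j | j <;>
    simp [Matrix.transvection, Matrix.one_apply, Matrix.single_apply]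

theorem up_single (a b : Fin 4) (c : K) : Cor.up (Matrix.single a b c) =
    Matrix.SpecialLinearGroup.transvection (Sum.inl_ne_inr : (Sum.inl a : Fin 4 ⊕ Fin 4) ≠ Sum.inr b) c := by
  apply Subtype.ext
  change Matrix.fromBlocks 1 (Matrix.single a b c) 0 1 = Matrix.transvection (Sum.inl a) (Sum.inr b) c
  ext i j
  rcases i with i | i <;> rcases j with j | j <;>
    simp [Matrix.transvection, Matrix.one_apply, Matrix.single_apply]

theorem xc_mem_VJ {q : ℕ} (hq : q < chevE8.nroots) (h : ∃ k : Fin 8, k ∉ JP ∧ 0 < vec chevE8 8 q k) (c : K) :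
    xc hp8 (vec chevE8 8 q) c ∈ VJ cs8 hp8.isCartan (XX chevE8 8 K) {k | k ∈ JP} := by
  obtain ⟨k, hk, h0⟩ := h
  have hr := isRoot_vec hp8 cs8 hq
  have hx : vec chevE8 8 q ∈ NotJ cs8 hp8.isCartan {k | k ∈ JP} :=
    ⟨hr, nonneg_of_pos_apply hr h0, k, hk, h0⟩
  exact RGD.le_Sup (X := XX chevE8 8 K) hx ((mem_XX hp8 hq _).2 ⟨c, rfl⟩)

theorem xc_mem_VNJ {q : ℕ} (hq : q < chevE8.nroots) (h : ∃ k : Fin 8, k ∉ JP ∧ vec chevE8 8 q k < 0) (c : K) :
    xc hp8 (vec chevE8 8 q) c ∈ VNJ cs8 hp8.isCartan (XX chevE8 8 K) {k | k ∈ JP} := by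
  obtain ⟨k, hk, h0⟩ := h
  have hr := (isRoot_vec hp8 cs8 hq).neg
  have h1 : 0 < (-vec chevE8 8 q) k := by
    rw [Pi.neg_apply]
    omega
  have hx : vec chevE8 8 q ∈ NotNJ cs8 hp8.isCartan {k | k ∈ JP} :=
    ⟨hr, nonneg_of_pos_apply hr h1, k, hk, h1⟩
  exact RGD.le_Sup (X := XX chevE8 8 K) hx ((mem_XX hp8 hq _).2 ⟨c, rfl⟩)

theorem Ps_low (Z : Matrix (Fin 4) (Fin 4) K) :
    Ps K (Cor.low Z) ∈ VNJ cs8 hp8.isCartan (XX chevE8 8 K) {k | k ∈ JP} := by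
  induction Z using Matrix.induction_on' with
  | h_zero => rw [Cor.low_zero, map_one]; exact one_mem _
  | h_add p q hp hq => rw [← Cor.low_add, map_mul]; exact mul_mem hp hq
  | h_std_basis i j x =>
    rw [low_single, Ps_tv]
    exact xc_mem_VNJ K (rt8.1 _ _ (e8.injective.ne Sum.inr_ne_inl)) ⟨4, not4, r8_low i j⟩ _

theorem Ps_up (Z : Matrix (Fin 4) (Fin 4) K) :
    Ps K (Cor.up Z) ∈ VJ cs8 hp8.isCartan (XX chevE8 8 K) {k | k ∈ JP} := by
  induction Z using Matrix.induction_on' with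
  | h_zero => rw [Cor.up_zero, map_one]; exact one_mem _
  | h_add p q hp hq => rw [← Cor.up_add, map_mul]; exact mul_mem hp hq
  | h_std_basis i j x =>
    rw [up_single, Ps_tv]
    exact xc_mem_VJ K (rt8.1 _ _ (e8.injective.ne Sum.inl_ne_inr)) ⟨4, not4, r8_up i j⟩ _

theorem V7_le : VJ cs8 hp8.isCartan (XX chevE8 8 K) {k | k ∈ J7} ≤
    (pa K).range ⊔ VJ cs8 hp8.isCartan (XX chevE8 8 K) {k | k ∈ JP} := by
  refine RGD.Sup_le fun x hx => ?_
  obtain ⟨q, hq, rfl⟩ := (isRoot_iff hp8 _ x).1 hx.1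
  obtain ⟨-, -, k, hk, h0⟩ := hx
  intro y hy
  obtain ⟨c, rfl⟩ := (mem_XX hp8 hq y).1 hy
  rcases out7p q hq ⟨k, hk, h0⟩ with h | h
  · exact (le_sup_right : _ ≤ (pa K).range ⊔ VJ cs8 hp8.isCartan (XX chevE8 8 K) {k | k ∈ JP}) (xc_mem_VJ K hq h c)
  · exact (le_sup_left : _ ≤ (pa K).range ⊔ VJ cs8 hp8.isCartan (XX chevE8 8 K) {k | k ∈ JP}) (mem_pa K h c)

theorem VN7_le : VNJ cs8 hp8.isCartan (XX chevE8 8 K) {k | k ∈ J7} ≤
    VNJ cs8 hp8.isCartan (XX chevE8 8 K) {k | k ∈ JP} ⊔ (pa K).range := by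
  refine RGD.Sup_le fun x hx => ?_
  obtain ⟨-, -, k, hk, h0⟩ := id hx
  have hx1 : IsRoot cs8 hp8.isCartan x := NotNJ.isRoot hx
  obtain ⟨q, hq, rfl⟩ := (isRoot_iff hp8 _ x).1 hx1
  rw [Pi.neg_apply] at h0
  intro y hy
  obtain ⟨c, rfl⟩ := (mem_XX hp8 hq y).1 hy
  rcases out7n q hq ⟨k, hk, by omega⟩ with h | h
  · exact (le_sup_left : _ ≤ VNJ cs8 hp8.isCartan (XX chevE8 8 K) {k | k ∈ JP} ⊔ (pa K).range) (xc_mem_VNJ K hq h c)
  · exact (le_sup_right : _ ≤ VNJ cs8 hp8.isCartan (XX chevE8 8 K) {k | k ∈ JP} ⊔ (pa K).range) (mem_pa K h c)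

end Hom

/-! ### The corner of a product of triangular matrices -/

section corner

variable {K : Type u} [Field K]

theorem inr_le {a b : Fin 4} : e8 (Sum.inr a) ≤ e8 (Sum.inr b) ↔ a ≤ b := by
  revert a b
  decide +kernel

theorem inl_lt (a b : Fin 4) : e8 (Sum.inl a) < e8 (Sum.inr b) := by
  revert a b
  decide +kernel

theorem inr_lt {a b : Fin 4} : e8 (Sum.inr a) < e8 (Sum.inr b) ↔ a < b := by
  revert a b
  decide +kernel

theorem corner_mul {L U : Matrix.SpecialLinearGroup (Fin 8) K} (hU : U ∈ UT 8 K) :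
    (Ri K (U * L)).1.toBlocks₂₂ = (Matrix.of fun i j => U.1 (e8 (Sum.inr i)) (e8 (Sum.inr j))) *
      Matrix.of fun i j => L.1 (e8 (Sum.inr i)) (e8 (Sum.inr j)) := by
  ext i j
  change (U.1 * L.1) (e8 (Sum.inr i)) (e8 (Sum.inr j)) = _
  rw [Matrix.mul_apply, Matrix.mul_apply, ← e8.sum_comp, Fintype.sum_sum_type]
  rw [Finset.sum_eq_zero, zero_add]
  · rfl
  · intro k _
    rw [(mem_UT.1 hU).1 _ _ (inl_lt k i), zero_mul]

theorem corner_det {L U : Matrix.SpecialLinearGroup (Fin 8) K} (hL : L ∈ LT 8 K) (hU : U ∈ UT 8 K) :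
    ((Ri K (U * L)).1.toBlocks₂₂).det = 1 := by
  rw [corner_mul hU, Matrix.det_mul, Matrix.det_of_isUpperTriangular, Matrix.det_of_isLowerTriangular]
  · rw [Finset.prod_eq_one, Finset.prod_eq_one, one_mul]
    · intro i _
      exact (mem_LT.1 hL).2 _
    · intro i _
      exact (mem_UT.1 hU).2 _
  · intro i j hij
    exact (mem_LT.1 hL).1 _ _ (inr_lt.2 hij)
  · intro i j hij
    exact (mem_UT.1 hU).1 _ _ (inr_lt.2 hij)

theorem corner_ne {L U : Matrix.SpecialLinearGroup (Fin 8) K} (hL : L ∈ LT 8 K) (hU : U ∈ UT 8 K) (h2 : (2 : K) ≠ 0) :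
    (Ri K (U * L)).1.toBlocks₂₂ ≠ -1 := by
  intro h
  rw [corner_mul hU] at h
  have h1 := congrFun (congrFun h 3) 3
  rw [Matrix.mul_apply, Fin.sum_univ_four, Matrix.neg_apply, Matrix.one_apply_eq] at h1
  simp only [Matrix.of_apply] at h1
  rw [(mem_UT.1 hU).1 _ _ (inr_lt.2 (by decide : (0 : Fin 4) < 3)), (mem_UT.1 hU).1 _ _ (inr_lt.2 (by decide : (1 : Fin 4) < 3)),
    (mem_UT.1 hU).1 _ _ (inr_lt.2 (by decide : (2 : Fin 4) < 3)), (mem_UT.1 hU).2, (mem_LT.1 hL).2] at h1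
  exact h2 (by linear_combination h1)

theorem Ri_inv (A : Matrix.SpecialLinearGroup (Fin 8) K) : (Ri K A)⁻¹ = Ri K A⁻¹ := by
  apply Re_inj
  rw [map_inv, Re_Ri, Re_Ri]

end corner

/-! ### The group -/

section main

variable {K : Type u} [Field K] [Finite K]

/-- **`E₈(3)`.** -/
theorem pairsE (hK : Nat.card K = 3) (g : ↥(chevE8.group K)) :
    ∃ a b : ↥(chevE8.group K), g = a * b ∧ a ^ 55 = 1 ∧ b ^ 55 = 1 := by
  have hS := Cfsg.Agent.S1054.result (F := K) chevE8 (by simp)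
  obtain ⟨p, hpc⟩ := CharP.exists K
  have : Fact p.Prime := ⟨(CharP.char_is_prime_or_zero K p).resolve_right (CharP.char_ne_zero_of_finite K p)⟩
  have h2 : (2 : K) ≠ 0 := by
    have : Fact (Nat.Prime 3) := ⟨Nat.prime_three⟩
    obtain ⟨hch, -⟩ := H374.Ore.Sl3.exists_cast (K := K) hK
    have h3 : (3 : K) = 0 := by
      have : ((3 : ℕ) : K) = 0 := CharP.cast_eq_zero K 3
      exact_mod_cast this
    intro h
    exact one_ne_zero (α := K) (by linear_combination h3 - h)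
  have := finite_W hp8 cs8
  have : Nonempty (Fin 8) := ⟨0⟩
  by_cases hg : g = 1
  · exact ⟨1, 1, by rw [hg]; simp, one_pow _, one_pow _⟩
  have R := rgd (K := K) hp8 cs8 p
  obtain ⟨x, v, hv, u, hu, e⟩ := gauss R (G1_eq_top hp8 _) (coord hp8)
    (Cfsg.Agent.Nodes.ChevChart.irr_of Cfsg.Agent.Nodes.ChevChart.irr8)
    (Cfsg.Agent.H224.Ore.Row.not_mem_core (by norm_num) hS.1 p hp8 hg)
  obtain ⟨vP, hvP, vL, hvL, rfl⟩ := exists_UNJ R (J := {k | k ∈ J7}) hv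
  obtain ⟨uL, huL, uP, huP, rfl⟩ := (mem_U_iff R (J := {k | k ∈ J7})).1 hu
  obtain ⟨L, hL, rfl⟩ := (pc7 K).exists_lo sub7 hvL
  obtain ⟨U, hU, rfl⟩ := (pc7 K).exists_up sub7 huL
  obtain ⟨S, Z, Y, c, d, hdec, hgd⟩ := Cor.exists_corner h2 (Ri K (L * U))
    (by rw [Ri_inv, _root_.mul_inv_rev]; exact corner_det (inv_mem hL) (inv_mem hU))
    (by rw [Ri_inv, _root_.mul_inv_rev]; exact corner_ne (inv_mem hL) (inv_mem hU) h2)
  -- conjugation by `s`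
  obtain ⟨s, hs⟩ : ∃ s, s = Ps K S := ⟨_, rfl⟩
  have hsL : s ∈ LJ cs8 hp8.isCartan (TT chevE8 K) (XX chevE8 8 K) {k | k ∈ J7} := by
    rw [hs]; exact (pc7 K).mem _
  have hM : s * (p8 K L * p8 K U) * s⁻¹ = (Ps K (Cor.low Z))⁻¹ * (Ps K (Cor.dL c) * pb K d) * (Ps K (Cor.up Y))⁻¹ := by
    have h1 : p8 K L * p8 K U = Ps K (Ri K (L * U)) := by
      rw [Ps, MonoidHom.comp_apply, Re_Ri, map_mul]
    rw [h1, hs, ← map_inv, ← map_mul, ← map_mul, hdec, map_mul, map_mul, map_mul, map_inv, map_inv, Ps_dR]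
  have hv1 : s * vP * s⁻¹ ∈ VNJ cs8 hp8.isCartan (XX chevE8 8 K) {k | k ∈ J7} :=
    (Subgroup.mem_normalizer_iff.1 (LJ_le_normalizer_VNJ R _ hsL) vP).1 hvP
  have hu1 : s * uP * s⁻¹ ∈ VJ cs8 hp8.isCartan (XX chevE8 8 K) {k | k ∈ J7} :=
    (Subgroup.mem_normalizer_iff.1 (LJ_le_normalizer_VJ R _ hsL) uP).1 huP
  have hpaL : (pa K).range ≤ LJ cs8 hp8.isCartan (TT chevE8 K) (XX chevE8 8 K) {k | k ∈ JP} := by
    rintro _ ⟨A, rfl⟩
    exact (Pc.block (pa_tv K) rta.1 raP rta.2.2.2.1).mem A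
  obtain ⟨w, hw, _, ⟨L5, rfl⟩, ew⟩ : ∃ w ∈ VNJ cs8 hp8.isCartan (XX chevE8 8 K) {k | k ∈ JP}, ∃ l ∈ (pa K).range,
      s * vP * s⁻¹ = w * l := by
    have h1 : s * vP * s⁻¹ ∈ ((VNJ cs8 hp8.isCartan (XX chevE8 8 K) {k | k ∈ JP} ⊔ (pa K).range : Subgroup _) : Set _) :=
      VN7_le K hv1
    rw [Subgroup.coe_mul_of_right_le_normalizer_left _ _ (le_trans hpaL (LJ_le_normalizer_VNJ R _)), Set.mem_mul] at h1
    obtain ⟨w, hw, l, hl, e⟩ := h1
    exact ⟨w, hw, l, hl, e.symm⟩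
  obtain ⟨_, ⟨U5, rfl⟩, w', hw', ew'⟩ : ∃ l ∈ (pa K).range, ∃ w ∈ VJ cs8 hp8.isCartan (XX chevE8 8 K) {k | k ∈ JP},
      s * uP * s⁻¹ = l * w := by
    have h1 : s * uP * s⁻¹ ∈ (((pa K).range ⊔ VJ cs8 hp8.isCartan (XX chevE8 8 K) {k | k ∈ JP} : Subgroup _) : Set _) :=
      V7_le K hu1
    rw [Subgroup.coe_mul_of_left_le_normalizer_right _ _ (le_trans hpaL (LJ_le_normalizer_VJ R _)), Set.mem_mul] at h1
    obtain ⟨l, hl, w, hw, e⟩ := h1
    exact ⟨l, hl, w, hw, e.symm⟩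
  obtain ⟨C5, hC5⟩ := Ps_dL K c
  obtain ⟨z, hz⟩ : ∃ z, z = (Ps K (Cor.low Z))⁻¹ := ⟨_, rfl⟩
  obtain ⟨y, hy⟩ : ∃ y, y = (Ps K (Cor.up Y))⁻¹ := ⟨_, rfl⟩
  have hzm : z ∈ VNJ cs8 hp8.isCartan (XX chevE8 8 K) {k | k ∈ JP} := by rw [hz]; exact inv_mem (Ps_low K Z)
  have hym : y ∈ VJ cs8 hp8.isCartan (XX chevE8 8 K) {k | k ∈ JP} := by rw [hy]; exact inv_mem (Ps_up K Y)
  rw [← hz, ← hy, ← hC5] at hM
  obtain ⟨X5, Y5, hA, hX5, hY5⟩ := five hK (L5 * C5 * U5)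
  obtain ⟨X4, Y4, hD, hX4, hY4⟩ := four hK d hgd
  have hcop : (∑ a ∈ Finset.range 5, Nat.card K ^ a).Coprime (Nat.card K ^ 4 - 1) := by rw [hK]; decide
  have hn1 := nfP hcop hX5.1 hX4.1
  have hn2 := nfP hcop hY5.1 hY4.1
  have hm1 := (pcP K).mem (X5, X4)
  have hm2 := (pcP K).mem (Y5, Y4)
  -- the two unipotent parts
  have hvv : w * (pa K L5 * z * (pa K L5)⁻¹) ∈ VNJ cs8 hp8.isCartan (XX chevE8 8 K) {k | k ∈ JP} :=
    mul_mem hw ((Subgroup.mem_normalizer_iff.1 (LJ_le_normalizer_VNJ R _ (hpaL ⟨L5, rfl⟩)) z).1 hzm)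
  have huu : (pa K U5)⁻¹ * y * pa K U5 * w' ∈ VJ cs8 hp8.isCartan (XX chevE8 8 K) {k | k ∈ JP} := by
    refine mul_mem ?_ hw'
    have h1 := (Subgroup.mem_normalizer_iff.1 (LJ_le_normalizer_VJ R _ (inv_mem (hpaL ⟨U5, rfl⟩))) y).1 hym
    rwa [inv_inv] at h1
  have hcom : pb K d * pa K U5 = pa K U5 * pb K d := ((cab U5 d).eq).symm
  have hPh : PhP K (X5, X4) * PhP K (Y5, Y4) = pa K L5 * pa K C5 * pb K d * pa K U5 := by
    rw [← map_mul, Prod.mk_mul_mk, ← hA, ← hD, PhP, MonoidHom.noncommCoprod_apply]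
    change pa K (L5 * C5 * U5) * pb K d = _
    rw [map_mul, map_mul, mul_assoc (pa K L5 * pa K C5), mul_assoc (pa K L5 * pa K C5), ← hcom]
  have etot : (s * x) * g * (s * x)⁻¹ = w * (pa K L5 * z * (pa K L5)⁻¹) * (PhP K (X5, X4) * PhP K (Y5, Y4)) *
      ((pa K U5)⁻¹ * y * pa K U5 * w') := by
    rw [hPh]
    calc (s * x) * g * (s * x)⁻¹ = s * (x * g * x⁻¹) * s⁻¹ := by group
      _ = (s * vP * s⁻¹) * (s * (p8 K L * p8 K U) * s⁻¹) * (s * uP * s⁻¹) := by rw [e]; group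
      _ = w * pa K L5 * (z * (pa K C5 * pb K d) * y) * (pa K U5 * w') := by rw [ew, ew', hM]
      _ = _ := by group
  obtain ⟨a, ha, e1⟩ := exists_conj_of_fix R (LJ_le_normalizer_VNJ R _ hm1) hn1.2 hvv
  have huP' : PhP K (Y5, Y4) * ((pa K U5)⁻¹ * y * pa K U5 * w') * (PhP K (Y5, Y4))⁻¹ ∈
      VJ cs8 hp8.isCartan (XX chevE8 8 K) {k | k ∈ JP} :=
    (Subgroup.mem_normalizer_iff.1 (LJ_le_normalizer_VJ R _ hm2) _).1 huu
  obtain ⟨b, hb, e2⟩ := exists_conj_of_fix R (LJ_le_normalizer_VJ R _ hm2) hn2.1 huP'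
  have e3 : (s * x) * g * (s * x)⁻¹ = (a * PhP K (X5, X4) * a⁻¹) * (b * PhP K (Y5, Y4) * b⁻¹) := by
    rw [etot, ← e1, ← e2]
    group
  have hp1 : (PhP K (X5, X4)) ^ 55 = 1 := by
    rw [← map_pow]
    have : (X5, X4) ^ 55 = 1 := by
      refine Prod.ext ?_ ?_
      · change X5 ^ (11 * 5) = 1
        rw [pow_mul, hX5.2, one_pow]
      · change X4 ^ (5 * 11) = 1
        rw [pow_mul, hX4.2, one_pow]
    rw [this, map_one]
  have hp2 : (PhP K (Y5, Y4)) ^ 55 = 1 := by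
    rw [← map_pow]
    have : (Y5, Y4) ^ 55 = 1 := by
      refine Prod.ext ?_ ?_
      · change Y5 ^ (11 * 5) = 1
        rw [pow_mul, hY5.2, one_pow]
      · change Y4 ^ (5 * 11) = 1
        rw [pow_mul, hY4.2, one_pow]
    rw [this, map_one]
  refine ⟨((s * x)⁻¹ * a) * PhP K (X5, X4) * ((s * x)⁻¹ * a)⁻¹, ((s * x)⁻¹ * b) * PhP K (Y5, Y4) * ((s * x)⁻¹ * b)⁻¹,
    ?_, ?_, ?_⟩
  · calc g = (s * x)⁻¹ * ((s * x) * g * (s * x)⁻¹) * (s * x) := by group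
      _ = _ := by rw [e3]; group
  · rw [conj_pow, hp1, mul_one, mul_inv_cancel]
  · rw [conj_pow, hp2, mul_one, mul_inv_cancel]

/-- **`E₈(3)`.** -/
theorem six_E8_three' (hK : Nat.card K = 3) : All 6 ↥(chevE8.group K) :=
  all_of_pairs (N := 55) (by norm_num) (pairsE hK)

end main

end Cfsg.Agent.H122.Pw
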