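import Cfsg.Agent.H126.PwO.Cert
import Cfsg.Agent.H374.Ore.Sl3
import Cfsg.Agent.H126.PwO.Num

/-!
# `SL_4(3)`: which elements are products of two elements of order `5` (helper122, S2465)

Generated certificates.  An element `A` of `SL_4(3)` which is neither `-1` nor a transvection is `X Y` with `X`, `Y` of
characteristic polynomial `X ^ 4 + X ^ 3 + X ^ 2 + X + 1`.
-/

set_option autoImplicit false
set_option maxRecDepth 100000

namespace Cfsg.Agent.H122.Pw.Four

open Matrix Polynomial Cfsg.Agent.H934.MF Cfsg.Agent.H126.PwO.Cert

/-- lower coefficients of the fifth cyclotomic polynomial -/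
def lF : List ℕ := [1, 1, 1, 1]

/-- lower coefficients, determinant `-1` -/
def lG : List ℕ := [2, 0, 1, 0]

/-- check of one certificate -/
def okC (b c w : ℕ) : Bool :=
  mulR 3 4 (unM 3 4 (w % 4294967296)) (unM 3 4 (w / 4294967296)) == rowsB 3 4 b c &&
    (kr 3 4 (unM 3 4 (w % 4294967296)) lF (e1 4) (z0 4) &&
      (kr 3 4 (unM 3 4 (w / 4294967296)) lF (e1 4) (z0 4) || kr 3 4 (unM 3 4 (w / 4294967296)) lG (e1 4) (z0 4)))

/-- the starts of the blocks have nonzero digits -/
def stOK (b c : ℕ) : Bool := (List.range 4).all fun i => decide ((i = 0 ∨ b.testBit (i - 1) = true) → dg 3 c i ≠ 0)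

/-- the exceptions -/
def ex (b c : ℕ) : Bool :=
  (b == 15 && c == 80) || ((b == 14 && c == 44) || ((b == 13 && c == 52) || (b == 11 && c == 76)))

/-- check of the certificates of all `c` -/
def chkC (b : ℕ) : List ℕ → List ℕ → Bool
  | [], _ => true
  | c :: cs, [] => (!stOK b c || ex b c) && chkC b cs []
  | c :: cs, w :: ws => if stOK b c = true then (if ex b c = true then chkC b cs (w :: ws) else okC b c w && chkC b cs ws)
      else chkC b cs (w :: ws)

theorem chkC_spec {b : ℕ} : ∀ (cs ws : List ℕ), chkC b cs ws = true → ∀ c ∈ cs, stOK b c = true → ex b c = false →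
    ∃ w, okC b c w = true
  | [], _, _, c, hc, _, _ => absurd hc List.not_mem_nil
  | c₀ :: cs, [], h, c, hc, h1, h2 => by
    rw [chkC, Bool.and_eq_true] at h
    rcases List.mem_cons.1 hc with rfl | hc
    · rw [h1, h2] at h
      exact absurd h.1 (by decide)
    · exact chkC_spec cs [] h.2 c hc h1 h2
  | c₀ :: cs, w :: ws, h, c, hc, h1, h2 => by
    rw [chkC] at h
    by_cases h3 : stOK b c₀ = true
    · rw [if_pos h3] at h
      by_cases h4 : ex b c₀ = true
      · rw [if_pos h4] at h
        rcases List.mem_cons.1 hc with rfl | hc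
        · rw [h4] at h2; exact Bool.noConfusion h2
        · exact chkC_spec cs _ h c hc h1 h2
      · rw [if_neg h4, Bool.and_eq_true] at h
        rcases List.mem_cons.1 hc with rfl | hc
        · exact ⟨w, h.1⟩
        · exact chkC_spec cs ws h.2 c hc h1 h2
    · rw [if_neg h3] at h
      rcases List.mem_cons.1 hc with rfl | hc
      · exact absurd h1 h3
      · exact chkC_spec cs _ h c hc h1 h2

/-- certificates -/
def t8 : List ℕ := [
  1098108672787893012, 4757802652963519288, 1022049054395481348, 74397625755382033, 3330722090458296135,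
  3980061742037539662, 3762792780989745437, 943836317170878486, 1816144883255365439, 5271534025194607409,
  3244083009401858624, 237007720648218448, 3694110747324532792, 5207648998278052172, 5351992893010091341,
  453235495103893774, 4488989653162405381, 224397228765745679, 2746382465511788312, 650007301061946433, 3468958258075222066,
  4259047647388122642, 5767501618128358476, 4972320563069797435, 3249414515731542059, 1885659268026481441,
  4846463951120710698, 1815873287040740378, 2826619292323611979, 3337186222781302858, 4828444080601961006,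
  5485986904332640050, 2827749393124763457, 3830673506917159744, 937669212372353312, 88953957703107882, 1021803789616877374,
  3471777394142427970, 5698185189074809864, 1874665393547590922, 369913361821473828, 149507215751335705,
  4767938969289895493, 5065223716017159476, 3624874371288681221, 1241324679626097191, 1317030418535883595,
  5261379961846059072, 4113796492791857988, 3398612506015697924, 5052762908075244334, 4398915414244993843,
  4688598085204256815, 879361143863645749]

theorem chk8 : chkC 8 (List.range 81) t8 = true := by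
  decide +kernel

/-- certificates -/
def t9 : List ℕ := [
  4187237182333335589, 1375349718451701035, 3104160095599602702, 3109747754015720016, 4199095724472407586,
  3970285103464322112, 3252200673531993365, 4541342881532942645, 5209292811211375175, 367390039128744233,
  5193575236990735673, 2608201272602610197, 1014785762352179764, 216809498400734729, 3470084003397849131,
  5419554716909111607, 1154650125919277070, 2823551619952092451, 5424316654556623139, 593081297428879943,
  3830604276556372258, 2675214084305463310, 808446891793202254, 1671137840959264314, 1876333244476560152,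
  3326767160013947187, 439736791133994573, 3190037365690468902, 5494754470567085841, 2253781447293085994,
  730725635681360160, 2825795637671182391, 1390550359683836720, 1235421290282499393, 3388438669020377354, 1734185191167565589]

theorem chk9 : chkC 9 (List.range 81) t9 = true := by
  decide +kernel

/-- certificates -/
def t10 : List ℕ := [
  796095961295899155, 4769083389465408286, 5410549407890551365, 2961467834869485644, 4116374847712475147,
  1886520255158093848, 1377908079710384925, 2380771561814573593, 2963672325486021926, 2540047838546317319,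
  79399214220055850, 3333573197140019250, 3332109643728365645, 1738983412212375567, 2318596348322319648,
  4544205714016450874, 4408221666804575291, 4621271857354458955, 2101220704343310405, 4546113567480358936,
  3754351804233043251, 1514685200632135239, 4474067089519102223, 4542804028823451665, 2026144023644350486,
  4832166769060299811, 298678014059027270, 446463358627156251, 454913092029978934, 2385024383129173552, 1595452008672201520,
  2183723882789867528, 1168410406700726303, 5777037790977467413, 2170535021283249725, 4397845597990305329]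

theorem chk10 : chkC 10 (List.range 81) t10 = true := by
  decide +kernel

/-- certificates -/
def t11 : List ℕ := [
  3396310227449167397, 1677669034369895184, 2034295544986421286, 448390917972826886, 91275111856877595, 3977004150003995427,
  3042807278285501455, 4758950418532277765, 3251891603958404637, 2322807448212021284, 237582567909570056,
  2103539742979327244, 5769171669487591955, 3541586503512560443, 1599695973367087628, 649122077213933833,
  3116293262126754620, 4191488160268750672, 3769311892703481676, 738656412752490519, 957637262114499116, 305154235995016728,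
  4405955479185935903]

theorem chk11 : chkC 11 (List.range 81) t11 = true := by
  decide +kernel

/-- certificates -/
def t12 : List ℕ := [
  3115972127692504588, 586890841024114963, 4548091653676027450, 5269841683325265177, 1094113245703981318,
  2460674106923562243, 1232875963341281612, 5282755417245105729, 1375366108345012529, 89561841417132071,
  2973228035215999258, 2960032778839662416, 663184796419245851, 4557142829603310597, 5697416415782057282,
  2533350923911234836, 521616185356850193, 2024974015046624830, 1094953156923361335, 4703772398353979660,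
  4399485939701521461, 4629213647523878173, 1523343785964746783, 5773628093496173579, 2522664722348905007,
  3976696227473542712, 2311817815749823310, 4984135855128122652, 4399225454966742562, 2322217203001799704,
  5550751527920536889, 3190604705283641623, 1593732506068522762, 1874988657919465284, 2975817311933175573, 580992106934185231]

theorem chk12 : chkC 12 (List.range 81) t12 = true := by
  decide +kernel

/-- certificates -/
def t13 : List ℕ := [
  3463070305038766896, 2675718910415282216, 4340922647742385453, 4403986378986307912, 525871157846492471,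
  2019872409437871125, 4054976971120902442, 3260914299287506468, 2959720518208655128, 2167134404423981572,
  873777608530265158, 5267030163258548556, 3620920601128226311, 5050788258140527619, 4416354509773746741,
  2101521077244606540, 2318312777115969816, 4473278550824263987, 2242875298140522541, 1746876694803268407,
  4972274409551707410, 1022625258933783868, 3337173006983643415]

theorem chk13 : chkC 13 (List.range 81) t13 = true := by
  decide +kernel

/-- certificates -/
def t14 : List ℕ := [
  3245762852481221649, 4042047899705618970, 4690530997606812447, 5426633231771320084, 1017039627892834878,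
  2245121436080220685, 3747884451723158290, 369060209637342724, 5049714005919606039, 157950378125237277,
  2821021656578411324, 734106762416102928, 1819462217196178198, 2963723878126532423, 4828724288916304914,
  4403473830122883887, 5279132612177710385, 4476894986016333378, 3027049146688737865, 1747702401426536197,
  1810767124086916875, 593660747807656999, 5696556717476157003]

theorem chk14 : chkC 14 (List.range 81) t14 = true := by
  decide +kernel

/-- certificates -/
def t15 : List ℕ := [
  3685707059759622942, 2034511294329206803, 2465506559680976194, 1519967395872255235, 5057022588575299348,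
  5065726154565027143, 4267512814120410943, 3112855085645114131, 5779015863331655453, 5710570139419883296,
  5422136070169895481, 2380770432338117179, 4990639465834491144, 3322303211173263629, 3120730818852298030]

theorem chk15 : chkC 15 (List.range 81) t15 = true := by
  decide +kernel

theorem all {b c : ℕ} (hb : 8 ≤ b) (hb' : b < 16) (hc : c < 81) (h1 : stOK b c = true) (h2 : ex b c = false) :
    ∃ w, okC b c w = true := by
  have hm : c ∈ List.range 81 := List.mem_range.2 hc
  interval_cases b
  · exact chkC_spec _ _ chk8 c hm h1 h2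
  · exact chkC_spec _ _ chk9 c hm h1 h2
  · exact chkC_spec _ _ chk10 c hm h1 h2
  · exact chkC_spec _ _ chk11 c hm h1 h2
  · exact chkC_spec _ _ chk12 c hm h1 h2
  · exact chkC_spec _ _ chk13 c hm h1 h2
  · exact chkC_spec _ _ chk14 c hm h1 h2
  · exact chkC_spec _ _ chk15 c hm h1 h2

variable {F : Type*} [Field F]

/-- the fifth cyclotomic polynomial -/
noncomputable def pF (F : Type*) [Field F] : F[X] := X ^ 4 + X ^ 3 + X ^ 2 + X + 1

/-- determinant `-1` -/
noncomputable def pG (F : Type*) [Field F] : F[X] := X ^ 4 + X ^ 2 + 2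

theorem mono_eq : mono (lF.map fun b : ℕ => (b : F)) = pF F := by
  rw [lF, pF]
  simp only [List.map_cons, List.map_nil, mono, List.cons_append, List.nil_append, toP]
  simp only [Nat.cast_one, map_one]
  ring

theorem mono_eqG : mono (lG.map fun b : ℕ => (b : F)) = pG F := by
  rw [lG, pG]
  simp only [List.map_cons, List.map_nil, mono, List.cons_append, List.nil_append, toP]
  simp only [Nat.cast_ofNat, Nat.cast_one, Nat.cast_zero, map_ofNat, map_one, map_zero]
  ring

theorem pF_dvd : pF F ∣ X ^ 5 - 1 := ⟨X - 1, by rw [pF]; ring⟩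

theorem three [CharP F 3] : (3 : F[X]) = 0 := by
  have : ((3 : ℕ) : F[X]) = 0 := CharP.cast_eq_zero F[X] 3
  exact_mod_cast this

theorem pG_mul [CharP F 3] : pG F * (X ^ 4 + 2 * X ^ 2 + 2) = X ^ 8 + 1 := by
  rw [pG]
  linear_combination (X ^ 6 + 2 * X ^ 4 + 2 * X ^ 2 + 1) * three (F := F)

theorem pF_monic : (pF F).Monic := by
  rw [← mono_eq]; exact mono_monic _

theorem pF_deg : (pF F).natDegree = 4 := by
  rw [← mono_eq, mono_natDegree]; rfl

theorem pG_monic : (pG F).Monic := by
  rw [← mono_eqG]; exact mono_monic _

theorem pG_deg : (pG F).natDegree = 4 := by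
  rw [← mono_eqG, mono_natDegree]; rfl

theorem pF_irr [Finite F] (hF : Nat.card F = 3) [CharP F 3] : Irreducible (pF F) := by
  have : Fintype F := Fintype.ofFinite F
  have hF' : Fintype.card F = 3 := by rw [← Nat.card_eq_fintype_card, hF]
  refine irr_of_pow pF_monic pF_deg (by norm_num) (N := 5) (e := 1) (by norm_num) pF_dvd ?_ ?_
  · refine ⟨-1, X ^ 3 + 2 * X ^ 2 + 1, ?_⟩
    rw [pF]
    linear_combination (-X ^ 2 - 1 : F[X]) * three (F := F)
  · intro m h1 h2
    rw [hF']
    have : m = 1 ∨ m = 2 := by omega
    rcases this with rfl | rfl <;> norm_num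

theorem pG_irr [Finite F] (hF : Nat.card F = 3) [CharP F 3] : Irreducible (pG F) := by
  have : Fintype F := Fintype.ofFinite F
  have hF' : Fintype.card F = 3 := by rw [← Nat.card_eq_fintype_card, hF]
  refine irr_of_pow pG_monic pG_deg (by norm_num) (N := 16) (e := 8) (by norm_num) ?_ ?_ ?_
  · refine ⟨(X ^ 4 + 2 * X ^ 2 + 2) * (X ^ 8 - 1), ?_⟩
    linear_combination (1 - X ^ 8 : F[X]) * pG_mul (F := F)
  · refine ⟨-(X ^ 4 + 2 * X ^ 2 + 2), 1, ?_⟩
    linear_combination (-1 : F[X]) * pG_mul (F := F) - three (F := F)
  · intro m h1 h2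
    rw [hF']
    have : m = 1 ∨ m = 2 := by omega
    rcases this with rfl | rfl <;> norm_num

/-- the transvections among the block companion matrices -/
theorem ex_tv [CharP F 3] {b c : ℕ} (h : ex b c = true) : mat F 4 (rowsB 3 4 b c) = -1 ∨
    ((∃ u v : Fin 4 → F, mat F 4 (rowsB 3 4 b c) = 1 + vecMulVec u v) ∧ mat F 4 (rowsB 3 4 b c) ≠ 1) := by
  have h3 : (3 : F) = 0 := by
    have : ((3 : ℕ) : F) = 0 := CharP.cast_eq_zero F 3
    exact_mod_cast this
  rw [ex, Bool.or_eq_true, Bool.or_eq_true, Bool.or_eq_true, Bool.and_eq_true, Bool.and_eq_true, Bool.and_eq_true,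
    Bool.and_eq_true] at h
  simp only [beq_iff_eq] at h
  rcases h with ⟨rfl, rfl⟩ | ⟨rfl, rfl⟩ | ⟨rfl, rfl⟩ | ⟨rfl, rfl⟩
  · left
    have e : rowsB 3 4 15 80 = [[2, 0, 0, 0], [0, 2, 0, 0], [0, 0, 2, 0], [0, 0, 0, 2]] := by decide +kernel
    rw [e]
    ext i j
    fin_cases i <;> fin_cases j <;> simp [mat, g] <;> linear_combination h3
  · right
    have e : rowsB 3 4 14 44 = [[0, 2, 0, 0], [1, 2, 0, 0], [0, 0, 1, 0], [0, 0, 0, 1]] := by decide +kernel
    rw [e]
    refine ⟨⟨![2, 1, 0, 0], ![1, 1, 0, 0], ?_⟩, fun h1 => ?_⟩
    · ext i j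
      fin_cases i <;> fin_cases j <;> simp [mat, g, vecMulVec] <;>
        first | done | linear_combination h3 | linear_combination -h3 | ring
    · have h2 := congrFun (congrFun h1 1) 0
      simp [mat, g] at h2
  · right
    have e : rowsB 3 4 13 52 = [[1, 0, 0, 0], [0, 0, 2, 0], [0, 1, 2, 0], [0, 0, 0, 1]] := by decide +kernel
    rw [e]
    refine ⟨⟨![0, 2, 1, 0], ![0, 1, 1, 0], ?_⟩, fun h1 => ?_⟩
    · ext i j
      fin_cases i <;> fin_cases j <;> simp [mat, g, vecMulVec] <;>
        first | done | linear_combination h3 | linear_combination -h3 | ring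
    · have h2 := congrFun (congrFun h1 2) 1
      simp [mat, g] at h2
  · right
    have e : rowsB 3 4 11 76 = [[1, 0, 0, 0], [0, 1, 0, 0], [0, 0, 0, 2], [0, 0, 1, 2]] := by decide +kernel
    rw [e]
    refine ⟨⟨![0, 0, 2, 1], ![0, 0, 1, 1], ?_⟩, fun h1 => ?_⟩
    · ext i j
      fin_cases i <;> fin_cases j <;> simp [mat, g, vecMulVec] <;>
        first | done | linear_combination h3 | linear_combination -h3 | ring
    · have h2 := congrFun (congrFun h1 3) 2
      simp [mat, g] at h2

/-- **`SL_4(3)`.** -/
theorem p4_3 [Finite F] (hF : Nat.card F = 3) (A : Matrix (Fin 4) (Fin 4) F) (hA : A.det = 1) (hs : A ≠ -1)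
    (ht : ∀ u v : Fin 4 → F, A = 1 + vecMulVec u v → A = 1) :
    ∃ X Y : Matrix (Fin 4) (Fin 4) F, A = X * Y ∧ X.charpoly = pF F ∧ Y.charpoly = pF F := by
  have : Fact (Nat.Prime 3) := ⟨Nat.prime_three⟩
  obtain ⟨hch, hall⟩ := H374.Ore.Sl3.exists_cast (K := F) hF
  have h3 : (3 : F) = 0 := by
    have : ((3 : ℕ) : F) = 0 := CharP.cast_eq_zero F 3
    exact_mod_cast this
  have h2 : (-1 : F) ≠ 1 := by
    intro h
    have h4 : (1 : F) = 0 := by linear_combination h3 + h
    exact one_ne_zero h4
  obtain ⟨b, c, P, hb, hP, hAP⟩ := exists_blk (by norm_num : 0 < 4) A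
  have hu : IsUnit P.det := hP.isUnit
  have hA' : A = P * blk b c * P⁻¹ := by
    rw [← hAP, Matrix.mul_assoc, Matrix.mul_nonsing_inv _ hu, Matrix.mul_one]
  have hdet : (blk b c).det = 1 := by
    have h1 := congrArg Matrix.det hAP
    rw [Matrix.det_mul, Matrix.det_mul, hA, one_mul] at h1
    exact mul_left_cancel₀ hP (by rw [mul_one]; exact h1.symm)
  have hdig : ∀ i : Fin 4, ∃ n < 3, ((n : ℕ) : F) = c i := fun i => hall (c i)
  choose dgt hdl hdc using hdig
  obtain ⟨bN, hbN⟩ : ∃ bN, bN = Nat.ofBits b := ⟨_, rfl⟩
  obtain ⟨cN, hcN⟩ : ∃ cN, cN = dgt 0 + 3 * dgt 1 + 9 * dgt 2 + 27 * dgt 3 := ⟨_, rfl⟩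
  have hl0 := hdl 0
  have hl1 := hdl 1
  have hl2 := hdl 2
  have hl3 := hdl 3
  have hb' : ∀ i : Fin 4, b i = bN.testBit i := fun i => by
    rw [hbN, Nat.testBit_ofBits_lt _ _ i.2]
  have hdg : ∀ i : Fin 4, dg 3 cN i = dgt i := by
    have k0 : cN / 3 ^ 0 % 3 = dgt 0 := by rw [hcN]; norm_num; omega
    have k1 : cN / 3 ^ 1 % 3 = dgt 1 := by rw [hcN]; norm_num; omega
    have k2 : cN / 3 ^ 2 % 3 = dgt 2 := by rw [hcN]; norm_num; omega
    have k3 : cN / 3 ^ 3 % 3 = dgt 3 := by rw [hcN]; norm_num; omega
    intro i
    fin_cases i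
    exacts [k0, k1, k2, k3]
  have hc' : ∀ i : Fin 4, c i = ((dg 3 cN i : ℕ) : F) := fun i => by rw [hdg, hdc]
  have hbl : bN < 16 := by rw [hbN]; exact Nat.ofBits_lt_two_pow _
  have hcl : cN < 81 := by rw [hcN]; omega
  have hbt : bN.testBit 3 = true := by
    rw [← hb]; exact (hb' ⟨3, by norm_num⟩).symm
  have hbg : 8 ≤ bN := Nat.ge_two_pow_of_testBit hbt
  have hblk : blk b c = mat F 4 (rowsB 3 4 bN cN) := by
    rw [mat_rowsB]
    congr 1
    · funext i; exact hb' i
    · funext i; exact hc' i
  have hst : stOK bN cN = true := by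
    rw [stOK, List.all_eq_true]
    intro i hi
    rw [List.mem_range] at hi
    rw [decide_eq_true_iff]
    intro hs' h0
    have hci : c ⟨i, hi⟩ = 0 := by
      rw [hc' ⟨i, hi⟩]
      simp only
      rw [h0, Nat.cast_zero]
    have h5 : (blk b c).det = 0 := by
      refine Matrix.det_eq_zero_of_row_eq_zero ⟨i, hi⟩ fun j => ?_
      rw [blk, Matrix.of_apply]
      by_cases hj : b j = true
      · rw [if_pos hj, hci, ite_self]
      · rw [if_neg hj, if_neg]
        intro h4
        simp only at h4
        rcases hs' with hs' | hs'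
        · omega
        · have h6 : i - 1 = j := by omega
          rw [h6, ← hb' j] at hs'
          exact hj hs'
    rw [h5] at hdet
    exact zero_ne_one hdet
  have hex : ex bN cN = false := by
    by_contra hcon
    rw [Bool.not_eq_false] at hcon
    rcases ex_tv (F := F) hcon with h1 | ⟨⟨u, v, h1⟩, h4⟩
    · apply hs
      rw [hA', hblk, h1, Matrix.mul_neg, Matrix.mul_one, Matrix.neg_mul, Matrix.mul_nonsing_inv _ hu]
    · have h5 : A = 1 := by
        apply ht (P *ᵥ u) (v ᵥ* P⁻¹)
        rw [hA', hblk, h1, Matrix.mul_add, Matrix.mul_one, Matrix.add_mul, Matrix.mul_nonsing_inv _ hu,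
          Matrix.mul_vecMulVec, Matrix.vecMulVec_mul]
      apply h4
      rw [← hblk]
      have h6 : P * blk b c = P * 1 := by rw [← hAP, h5, Matrix.one_mul, Matrix.mul_one]
      have h7 := congrArg (P⁻¹ * ·) h6
      simp only [← Matrix.mul_assoc, Matrix.nonsing_inv_mul _ hu, Matrix.one_mul] at h7
      exact h7
  obtain ⟨w, hw⟩ := all hbg hbl hcl hst hex
  rw [okC, Bool.and_eq_true, Bool.and_eq_true, Bool.or_eq_true, beq_iff_eq] at hw
  obtain ⟨hw1, hw2, hw3⟩ := hw
  obtain ⟨x, hx⟩ : ∃ x, x = unM 3 4 (w % 4294967296) := ⟨_, rfl⟩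
  obtain ⟨y, hy⟩ : ∃ y, y = unM 3 4 (w / 4294967296) := ⟨_, rfl⟩
  rw [← hx, ← hy] at hw1
  rw [← hx] at hw2
  rw [← hy] at hw3
  have hxw : WF 4 x := by rw [hx]; exact wf_unM _ _
  have hyw : WF 4 y := by rw [hy]; exact wf_unM _ _
  have hirr : Irreducible (mono (lF.map fun b : ℕ => (b : F))) := by rw [mono_eq]; exact pF_irr hF
  have hirrG : Irreducible (mono (lG.map fun b : ℕ => (b : F))) := by rw [mono_eqG]; exact pG_irr hF
  have hlp : ∀ b ∈ lF, b ≤ 3 := by decide
  have hlpG : ∀ b ∈ lG, b ≤ 3 := by decide
  have cx : (mat F 4 x).charpoly = pF F := by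
    rw [← mono_eq]; exact charpoly_of_kr (by norm_num) hxw rfl hlp hirr hw2
  have hd : ∀ M : Matrix (Fin 4) (Fin 4) F, M.charpoly = pF F → M.det = 1 := by
    intro M hM
    rw [det_eq_sign_charpoly_coeff, hM, Fintype.card_fin, pF]
    simp
    norm_num
  have hdG : ∀ M : Matrix (Fin 4) (Fin 4) F, M.charpoly = pG F → M.det = -1 := by
    intro M hM
    rw [det_eq_sign_charpoly_coeff, hM, Fintype.card_fin, pG]
    simp only [coeff_add, coeff_X_pow, coeff_ofNat_zero]
    norm_num
    linear_combination h3
  have hprod : mat F 4 (mulR 3 4 x y) = mat F 4 x * mat F 4 y := mat_mulR hxw hyw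
  have key : blk b c = mat F 4 x * mat F 4 y := by rw [hblk, ← hprod, hw1]
  have cy : (mat F 4 y).charpoly = pF F := by
    rcases hw3 with hw3 | hw3
    · rw [← mono_eq]; exact charpoly_of_kr (by norm_num) hyw rfl hlp hirr hw3
    · exfalso
      have cy : (mat F 4 y).charpoly = pG F := by
        rw [← mono_eqG]; exact charpoly_of_kr (by norm_num) hyw rfl hlpG hirrG hw3
      have h6 := congrArg Matrix.det key
      rw [hdet, Matrix.det_mul, hd _ cx, hdG _ cy, one_mul] at h6
      exact h2 h6.symm
  have hconj : ∀ Z : Matrix (Fin 4) (Fin 4) F, (P * Z * P⁻¹).charpoly = Z.charpoly := fun Z =>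
    Matrix.charpoly_units_conj (M := Matrix.nonsingInvUnit P hu) Z
  refine ⟨P * mat F 4 x * P⁻¹, P * mat F 4 y * P⁻¹, ?_, by rw [hconj, cx], by rw [hconj, cy]⟩
  rw [hA', key]
  calc P * (mat F 4 x * mat F 4 y) * P⁻¹ = P * mat F 4 x * (1 * mat F 4 y) * P⁻¹ := by
        rw [Matrix.one_mul]; simp only [Matrix.mul_assoc]
    _ = P * mat F 4 x * P⁻¹ * (P * mat F 4 y * P⁻¹) := by
      rw [← Matrix.nonsing_inv_mul _ hu]; simp only [Matrix.mul_assoc]

end Cfsg.Agent.H122.Pw.Four
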