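import Cfsg.Agent.H194.Pw.Six

/-!
# Levi subgroups with several blocks (helper122, S2465, `E_8(3)`, `E_8(4)`, `E_8(9)`)

* `Pc` : a homomorphism onto a product of blocks of a Levi subgroup, with triangular subgroups (`Pc.prod`, `Pc.block`);
* `Pc.pairs` : every element of `D.group K` is `a b`, `a ^ N = b ^ N = 1`, if this holds for the products of a lower and an
  upper triangular element of the blocks, with factors without fixed points on `V_J`, `V_J⁻`;
* `exists_common` : a common splitting field; `spec_of_root` : the spectrum in a given field.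
-/

set_option autoImplicit false
set_option linter.unusedSectionVars false

namespace Cfsg.Agent.H122.Pw

open CoxeterSystem Cfsg.Agent.ChevalleyStructure.CoxeterGeom Cfsg.Agent.Tits.Roots Cfsg.Agent.Tits.Core
  Cfsg.Agent.Nodes.Reps Cfsg.Agent.Nodes.BNOf Cfsg.Agent.Nodes.RGDLib Cfsg.Agent.Nodes.Bruhat
  Cfsg.Agent.Nodes.OppDec Cfsg.Agent.Nodes.LeviDec Cfsg.Agent.Nodes.KindChev Cfsg.Agent.Nodes.ChevCls
  Cfsg.Agent.OddHalf.NI.ModelChev Cfsg.Agent.Nodes.StabComb
  Cfsg.Agent.H162.GaussDec Cfsg.Agent.H162.GaussLevi Cfsg.Agent.H162.GaussSL Cfsg.Agent.H162.GaussReg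
  Cfsg.Agent.H162.GaussPQ
  Cfsg.Agent.H928.Ore.Frame
open Cfsg.Lie Cfsg.Agent.ChevalleyStructure Cfsg.Agent.ChevalleyStructure.Elts
  Cfsg.Agent.ChevalleyStructure.RootVec Cfsg.Agent.ChevalleyStructure.NPerm
  Cfsg.Agent.ChevalleyStructure.CoxeterGeomTypes Cfsg.Agent.Nodes.RGDChev Cfsg.Agent.KFacts.RgdChevCoord
open Cfsg.Agent.FixBN.FieldRGD (uu vv dd ww)
open Cfsg.Agent.TitsThree.KExcRT Cfsg.Agent.AGraded
open Cfsg.Agent.H482.Ore.Fix (Bk SimpB wt NF.of_pow nf_block')
open Cfsg.Agent.H78.Pw Cfsg.Agent.H85.Pw Cfsg.Agent.H194.Pw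
open Cfsg.Agent.H150.E6T (le_of_gen)
open Cfsg.Agent.H162.GaussExc (coord)
open scoped MatrixGroups

universe u

/-! ### The blocks -/

section

variable {D : ChevalleyDatum} {l : ℕ} {M : CoxeterMatrix (Fin l)} (hp : IsType D l M) (K : Type u) [Field K]

/-- a product of blocks of the Levi subgroup of `J`, which contains the root subgroups of the roots in `Q` -/
structure Pc (J : Set (Fin l)) {G : Type*} [Group G] (φ : G →* ↥(D.group K)) (L U : Subgroup G) (Q : ℕ → Prop) :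
    Prop where
  mem : ∀ x, φ x ∈ LJ M.toCoxeterSystem hp.isCartan (TT D K) (XX D l K) J
  up : ∀ q < D.nroots, Q q → (∀ k, 0 ≤ vec D l q k) → ∀ c : K, ∃ u ∈ U, φ u = xc hp (vec D l q) c
  lo : ∀ q < D.nroots, Q q → (∀ k, vec D l q k ≤ 0) → ∀ c : K, ∃ u ∈ L, φ u = xc hp (vec D l q) c

variable {hp K} {J : Set (Fin l)}

theorem Pc.prod {G₁ G₂ : Type*} [Group G₁] [Group G₂] {φ₁ : G₁ →* ↥(D.group K)} {φ₂ : G₂ →* ↥(D.group K)}
    {L₁ U₁ : Subgroup G₁} {L₂ U₂ : Subgroup G₂} {Q₁ Q₂ : ℕ → Prop} (h₁ : Pc hp K J φ₁ L₁ U₁ Q₁)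
    (h₂ : Pc hp K J φ₂ L₂ U₂ Q₂) (hc : ∀ x y, Commute (φ₁ x) (φ₂ y)) :
    Pc hp K J (φ₁.noncommCoprod φ₂ hc) (L₁.prod L₂) (U₁.prod U₂) (fun q => Q₁ q ∨ Q₂ q) where
  mem := fun x => mul_mem (h₁.mem x.1) (h₂.mem x.2)
  up := by
    rintro q hq (hQ | hQ) hv c
    · obtain ⟨u, hu, e⟩ := h₁.up q hq hQ hv c
      exact ⟨(u, 1), ⟨hu, one_mem _⟩, by rw [MonoidHom.noncommCoprod_apply, map_one, mul_one]; exact e⟩
    · obtain ⟨u, hu, e⟩ := h₂.up q hq hQ hv c
      exact ⟨(1, u), ⟨one_mem _, hu⟩, by rw [MonoidHom.noncommCoprod_apply, map_one, one_mul]; exact e⟩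
  lo := by
    rintro q hq (hQ | hQ) hv c
    · obtain ⟨u, hu, e⟩ := h₁.lo q hq hQ hv c
      exact ⟨(u, 1), ⟨hu, one_mem _⟩, by rw [MonoidHom.noncommCoprod_apply, map_one, mul_one]; exact e⟩
    · obtain ⟨u, hu, e⟩ := h₂.lo q hq hQ hv c
      exact ⟨(1, u), ⟨one_mem _, hu⟩, by rw [MonoidHom.noncommCoprod_apply, map_one, one_mul]; exact e⟩

/-- a block -/
theorem Pc.block {n : ℕ} {r : Fin (n + 2) → Fin (n + 2) → ℕ} {s : Fin (n + 2) → Fin (n + 2) → ℤ}
    {φ : Matrix.SpecialLinearGroup (Fin (n + 2)) K →* ↥(D.group K)}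
    (hφ : ∀ a b (hab : a ≠ b) c, φ (Matrix.SpecialLinearGroup.transvection hab c) =
      xc hp (vec D l (r a b)) ((s a b : K) * c))
    (hr : ∀ a b, a ≠ b → r a b < D.nroots) (hJ : ∀ a b, a ≠ b → ∀ k, k ∉ J → vec D l (r a b) k = 0)
    (hs : ∀ a b, s a b * s a b = 1) :
    Pc hp K J φ (LT (n + 2) K) (UT (n + 2) K) (fun q => ∃ a b : Fin (n + 2), a ≠ b ∧ r a b = q ∧
      (a < b → ∃ k, 0 < vec D l q k) ∧ (b < a → ∃ k, vec D l q k < 0)) where
  mem := by
    refine le_of_gen _ _ fun a b hab c => ?_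
    rw [hφ]
    exact X_le_LJ (J := J) (x := vec D l (r a b)) ⟨isRoot_vec hp _ (hr a b hab), hJ a b hab⟩
      ((mem_XX hp (hr a b hab) _).2 ⟨_, rfl⟩)
  up := by
    rintro q hq ⟨a, b, hab, rfl, h1, h2⟩ hv c
    have hlt : a < b := by
      rcases lt_or_gt_of_ne hab with h | h
      · exact h
      · obtain ⟨k, hk⟩ := h2 h
        exact absurd hk (not_lt.2 (hv k))
    refine ⟨Matrix.SpecialLinearGroup.transvection hab ((s a b : K) * c), tv_mem_UT hab hlt _, ?_⟩
    rw [hφ, ← mul_assoc, ← Int.cast_mul, hs, Int.cast_one, one_mul]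
  lo := by
    rintro q hq ⟨a, b, hab, rfl, h1, h2⟩ hv c
    have hlt : b < a := by
      rcases lt_or_gt_of_ne hab with h | h
      · obtain ⟨k, hk⟩ := h1 h
        exact absurd hk (not_lt.2 (hv k))
      · exact h
    refine ⟨Matrix.SpecialLinearGroup.transvection hab ((s a b : K) * c), tv_mem_LT hab hlt _, ?_⟩
    rw [hφ, ← mul_assoc, ← Int.cast_mul, hs, Int.cast_one, one_mul]

section

variable {G : Type*} [Group G] {φ : G →* ↥(D.group K)} {L U : Subgroup G} {Q : ℕ → Prop} (h : Pc hp K J φ L U Q)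
  (hQ : ∀ q < D.nroots, (∀ k, k ∉ J → vec D l q k = 0) → Q q)

include h hQ

theorem Pc.exists_up {u : ↥(D.group K)} (hu : u ∈ UJ M.toCoxeterSystem hp.isCartan (XX D l K) J) :
    ∃ x ∈ U, φ x = u := by
  have h1 : UJ M.toCoxeterSystem hp.isCartan (XX D l K) J ≤ U.map φ := by
    refine RGD.Sup_le fun x hx => ?_
    obtain ⟨q, hq, rfl⟩ := (isRoot_iff hp _ x).1 hx.1
    intro y hy
    obtain ⟨c, rfl⟩ := (mem_XX hp hq y).1 hy
    obtain ⟨v, hv, e⟩ := h.up q hq (hQ q hq hx.2.2) hx.2.1 c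
    exact ⟨v, hv, e⟩
  exact h1 hu

theorem Pc.exists_lo {u : ↥(D.group K)} (hu : u ∈ UNJ M.toCoxeterSystem hp.isCartan (XX D l K) J) :
    ∃ x ∈ L, φ x = u := by
  have h1 : UNJ M.toCoxeterSystem hp.isCartan (XX D l K) J ≤ L.map φ := by
    refine RGD.Sup_le fun x hx => ?_
    obtain ⟨q, hq, hqx⟩ := (isRoot_iff hp M.toCoxeterSystem x).1 (by have := hx.1.neg; rwa [_root_.neg_neg] at this)
    subst hqx
    intro y hy
    obtain ⟨c, rfl⟩ := (mem_XX hp hq y).1 hy
    obtain ⟨v, hv, e⟩ := h.lo q hq (hQ q hq fun k hk => by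
      have := hx.2.2 k hk
      rw [Pi.neg_apply] at this
      exact neg_eq_zero.1 this) (fun k => by
      have := hx.2.1 k
      rw [Pi.neg_apply] at this
      exact neg_nonneg.1 this) c
    exact ⟨v, hv, e⟩
  exact h1 hu

/-- **Every element is a product of two good elements.** -/
theorem Pc.pairs [Finite K] (hl : 0 < l) (hS : IsSimpleGroup ↥(D.group K) ∧ ¬ IsMulCommutative ↥(D.group K))
    (hM : ∀ J : Finset (Fin l), J = ∅ ∨ J = Finset.univ ∨ ∃ a ∈ J, ∃ b, b ∉ J ∧ M a b ≠ 2) {Good : G → Prop} {N : ℕ}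
    (hP : ∀ v ∈ L, ∀ u ∈ U, ∃ x y, v * u = x * y ∧ Good x ∧ Good y)
    (hnf : ∀ x, Good x → NF (VJ M.toCoxeterSystem hp.isCartan (XX D l K) J) (φ x) ∧
      NF (VNJ M.toCoxeterSystem hp.isCartan (XX D l K) J) (φ x))
    (hN : ∀ x, Good x → x ^ N = 1) (g : ↥(D.group K)) : ∃ a b : ↥(D.group K), g = a * b ∧ a ^ N = 1 ∧ b ^ N = 1 := by
  obtain ⟨p, hpc⟩ := CharP.exists K
  have : Fact p.Prime := ⟨(CharP.char_is_prime_or_zero K p).resolve_right (CharP.char_ne_zero_of_finite K p)⟩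
  have := finite_W hp M.toCoxeterSystem
  have : Nonempty (Fin l) := ⟨⟨0, hl⟩⟩
  by_cases hg : g = 1
  · exact ⟨1, 1, by rw [hg]; simp, one_pow _, one_pow _⟩
  obtain ⟨c₁, c₂, x, y, ⟨h3, h4⟩, e⟩ := pair (rgd (K := K) hp M.toCoxeterSystem p) (G1_eq_top hp _)
    (coord hp) (Cfsg.Agent.Nodes.ChevChart.irr_of hM) (J := J)
    (Pr := fun c₁ c₂ : ↥(D.group K) => c₁ ^ N = 1 ∧ c₂ ^ N = 1)
    (fun v hv u hu => by
      obtain ⟨a, ha, rfl⟩ := h.exists_lo hQ hv
      obtain ⟨b, hb, rfl⟩ := h.exists_up hQ hu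
      obtain ⟨x, y, hxy, hx, hy⟩ := hP a ha b hb
      refine ⟨φ x, φ y, by rw [← map_mul, hxy, map_mul], ⟨h.mem _, h.mem _, (hnf x hx).2, (hnf y hy).1⟩, ?_, ?_⟩
      · rw [← map_pow, hN x hx, map_one]
      · rw [← map_pow, hN y hy, map_one])
    (Cfsg.Agent.H224.Ore.Row.not_mem_core hl hS.1 p hp hg)
  exact ⟨_, _, e, by rw [conj_pow, h3, mul_one, mul_inv_cancel], by rw [conj_pow, h4, mul_one, mul_inv_cancel]⟩

end

end

/-! ### A common field -/

section field

open Polynomial Matrix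

/-- the spectrum in a field which contains a root -/
theorem spec_of_root {K : Type u} [Field K] [Finite K] {n : ℕ} {x : Matrix.SpecialLinearGroup (Fin n) K}
    (h : Irreducible (x : Matrix (Fin n) (Fin n) K).charpoly) (K' : Type u) [Field K'] [Finite K'] [Algebra K K'] {z : K'}
    (hz : aeval z (x : Matrix (Fin n) (Fin n) K).charpoly = 0) :
    Spec (algebraMap K K') n (x : Matrix (Fin n) (Fin n) K).charpoly z := by
  classical
  have := Fintype.ofFinite K
  obtain ⟨f, hf⟩ : ∃ f, f = (x : Matrix (Fin n) (Fin n) K).charpoly := ⟨_, rfl⟩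
  rw [← hf] at h hz ⊢
  have hm : f.Monic := hf ▸ Matrix.charpoly_monic _
  have hd : f.natDegree = n := by rw [hf, Matrix.charpoly_natDegree_eq_dim, Fintype.card_fin]
  have hmin : minpoly K z = f := (minpoly.eq_of_irreducible_of_monic h hz hm).symm
  have hdm : (minpoly K z).natDegree = n := by rw [hmin, hd]
  have hcard : Fintype.card K = Nat.card K := (Nat.card_eq_fintype_card).symm
  have hinj : Function.Injective fun a : Fin n => z ^ (Nat.card K ^ (a : ℕ)) := by
    have := Cfsg.Agent.H934.MF.pow_inj hdm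
    rwa [hcard] at this
  have hroot : ∀ a : ℕ, (f.map (algebraMap K K')).IsRoot (z ^ (Nat.card K ^ a)) := by
    intro a
    rw [IsRoot.def, eval_map_algebraMap, ← hcard]
    exact Cfsg.Agent.H934.MF.root_pow hz a
  have hsplit : f.map (algebraMap K K') = ∏ a : Fin n, (X - C (z ^ (Nat.card K ^ (a : ℕ)))) := by
    have h1 : (∏ a : Fin n, (X - C (z ^ (Nat.card K ^ (a : ℕ))))) ∣ f.map (algebraMap K K') := by
      refine Finset.prod_dvd_of_coprime ?_ fun a _ => dvd_iff_isRoot.2 (hroot a)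
      intro a _ b _ hab
      exact isCoprime_X_sub_C_of_isUnit_sub (sub_ne_zero.2 (fun h => hab (hinj h))).isUnit
    have h2 : (∏ a : Fin n, (X - C (z ^ (Nat.card K ^ (a : ℕ))))).Monic :=
      monic_prod_of_monic _ _ fun a _ => monic_X_sub_C _
    have h3 : (∏ a : Fin n, (X - C (z ^ (Nat.card K ^ (a : ℕ))))).natDegree = n := by
      rw [natDegree_prod_of_monic _ _ fun a _ => monic_X_sub_C _, Finset.sum_congr rfl fun a _ => natDegree_X_sub_C _]
      simp
    refine (eq_of_monic_of_dvd_of_natDegree_le h2 (hm.map _) h1 ?_)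
    rw [h3, natDegree_map, hd]
  refine ⟨hinj, hsplit, ?_, ?_⟩
  · -- `z ^ (q ^ n)` is a root, hence one of the roots
    have h1 := hroot n
    rw [hsplit, IsRoot.def, eval_prod, Finset.prod_eq_zero_iff] at h1
    obtain ⟨a, -, ha⟩ := h1
    rw [eval_sub, eval_X, eval_C, sub_eq_zero] at ha
    by_cases h0 : (a : ℕ) = 0
    · rw [h0, pow_zero, pow_one] at ha
      exact ha
    · exfalso
      -- apply the Frobenius map `n - a` times: `z ^ (q ^ (n - a)) = z`
      have hn : (a : ℕ) < n := a.2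
      have h2 : (z ^ (Nat.card K ^ (n - (a : ℕ)))) ^ (Nat.card K ^ (a : ℕ)) = z ^ (Nat.card K ^ (a : ℕ)) := by
        rw [← pow_mul, ← pow_add, Nat.sub_add_cancel hn.le, ha]
      obtain ⟨p, hpc⟩ := CharP.exists K
      have hpp : Fact p.Prime := ⟨(CharP.char_is_prime_or_zero K p).resolve_right (CharP.char_ne_zero_of_finite K p)⟩
      have hpK : CharP K' p := charP_of_injective_algebraMap (algebraMap K K').injective p
      obtain ⟨m, -, hm'⟩ := FiniteField.card K p
      have hinj' : Function.Injective fun w : K' => w ^ (Nat.card K ^ (a : ℕ)) := by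
        rw [Nat.card_eq_fintype_card, hm', ← pow_mul]
        exact iterateFrobenius_inj K' p _
      have h3 : z ^ (Nat.card K ^ (n - (a : ℕ))) = z := hinj' h2
      have h4 := @hinj ⟨n - a, by omega⟩ ⟨0, by omega⟩ (by
        change z ^ (Nat.card K ^ (n - (a : ℕ))) = z ^ (Nat.card K ^ 0)
        rw [h3, pow_zero, pow_one])
      have h5 := congrArg Fin.val h4
      simp only at h5
      omega
  · have h1 : ((x : Matrix (Fin n) (Fin n) K).map (algebraMap K K')).det = 1 := by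
      have h2 : ((x : Matrix (Fin n) (Fin n) K).map (algebraMap K K')).det =
          algebraMap K K' (x : Matrix (Fin n) (Fin n) K).det :=
        (RingHom.map_det _ _).symm
      rw [h2, Matrix.SpecialLinearGroup.det_coe, map_one]
    rw [Matrix.det_eq_sign_charpoly_coeff, Matrix.charpoly_map, ← hf, hsplit, coeff_zero_eq_eval_zero, eval_prod] at h1
    simp only [eval_sub, eval_X, eval_C, zero_sub] at h1
    have h2 : ∀ a : Fin n, -(z ^ (Nat.card K ^ (a : ℕ))) = (-1) * z ^ (Nat.card K ^ (a : ℕ)) := fun a => neg_eq_neg_one_mul _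
    rw [Finset.prod_congr rfl fun a _ => h2 a, Finset.prod_mul_distrib, Finset.prod_const, Finset.card_univ,
      Fintype.card_fin, ← mul_assoc, ← mul_pow, neg_one_mul, _root_.neg_neg, one_pow, one_mul] at h1
    rw [Finset.prod_pow_eq_pow_sum] at h1
    rwa [Fin.sum_univ_eq_sum_range (fun a => Nat.card K ^ a) n] at h1

/-- a finite extension in which a polynomial splits -/
theorem exists_split {K : Type u} [Field K] [Finite K] (f : K[X]) :
    ∃ (K' : Type u) (_ : Field K') (_ : Finite K') (_ : Algebra K K'), Splits (f.map (algebraMap K K')) :=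
  ⟨f.SplittingField, inferInstance, Module.finite_of_finite K, inferInstance, SplittingField.splits f⟩

/-- **A common field** of three matrices. -/
theorem exists_common {K : Type u} [Field K] [Finite K] {a b c : ℕ}
    (x : Matrix.SpecialLinearGroup (Fin a) K) (y : Matrix.SpecialLinearGroup (Fin b) K)
    (z : Matrix.SpecialLinearGroup (Fin c) K) (hx : Irreducible (x : Matrix (Fin a) (Fin a) K).charpoly)
    (hy : Irreducible (y : Matrix (Fin b) (Fin b) K).charpoly) (hz : Irreducible (z : Matrix (Fin c) (Fin c) K).charpoly) :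
    ∃ (K' : Type u) (_ : Field K') (_ : Finite K') (i : K →+* K') (u v w : K'),
      Spec i a (x : Matrix (Fin a) (Fin a) K).charpoly u ∧ Spec i b (y : Matrix (Fin b) (Fin b) K).charpoly v ∧
      Spec i c (z : Matrix (Fin c) (Fin c) K).charpoly w := by
  classical
  obtain ⟨f, hf⟩ : ∃ f, f = (x : Matrix (Fin a) (Fin a) K).charpoly * ((y : Matrix (Fin b) (Fin b) K).charpoly *
    (z : Matrix (Fin c) (Fin c) K).charpoly) := ⟨_, rfl⟩
  have hf0 : f ≠ 0 := by
    rw [hf]
    exact mul_ne_zero hx.ne_zero (mul_ne_zero hy.ne_zero hz.ne_zero)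
  obtain ⟨K', _, hfin, _, hs⟩ := exists_split f
  have hf1 : f.map (algebraMap K K') ≠ 0 := (Polynomial.map_ne_zero_iff (algebraMap K K').injective).2 hf0
  have key : ∀ g : K[X], g ∣ f → Irreducible g → ∃ r : K', aeval r g = 0 := by
    intro g hg hirr
    have h1 : Splits (g.map (algebraMap K K')) := hs.of_dvd hf1 (map_dvd (mapRingHom (algebraMap K K')) hg)
    obtain ⟨r, hr⟩ := h1.exists_eval_eq_zero (by
      rw [degree_map]
      exact (hirr.degree_pos).ne')
    exact ⟨r, by rw [← eval_map_algebraMap]; exact hr⟩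
  obtain ⟨u, hu⟩ := key _ (hf ▸ dvd_mul_right _ _) hx
  obtain ⟨v, hv⟩ := key _ (hf ▸ (dvd_mul_right _ _).mul_left _) hy
  obtain ⟨w, hw⟩ := key _ (hf ▸ (dvd_mul_left _ _).mul_left _) hz
  exact ⟨K', inferInstance, hfin, algebraMap K K', u, v, w, spec_of_root hx _ hu, spec_of_root hy _ hv,
    spec_of_root hz _ hw⟩

end field

end Cfsg.Agent.H122.Pw
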