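import Cfsg.Agent.H122.Pw.EightThree
import Cfsg.Agent.H267.Ore.EEightPw
import Cfsg.Agent.H85.Pw.EEightFour
import Cfsg.Agent.H85.Pw.Nine
import Cfsg.Agent.H962.PP.FiveSL
import Cfsg.Agent.H346.Pw.Rows

/-!
# S2465: the row `E₈(q)`, all `q` (helper122)
-/

set_option autoImplicit false

namespace Cfsg.Agent.H122.Pw

open Cfsg.Agent.H78.Pw

universe u

theorem six_E8_nine' {K : Type u} [Field K] [Finite K] (hK : Nat.card K = 9) : All 6 ↥(Lie.chevE8.group K) := by
  have h := PI.of_irr (Cfsg.Agent.H962.PP.p_five_nine hK)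
  rw [hK] at h
  exact Cfsg.Agent.H85.Pw.Nine.six_E8_9 hK h

/-- **The small fields.** -/
theorem six_E8_small (F : Type u) [Field F] [Finite F]
    (h : Nat.card F = 2 ∨ Nat.card F = 3 ∨ Nat.card F = 4 ∨ Nat.card F = 9) : All 6 ↥(Lie.chevE8.group F) := by
  rcases h with h | h | h | h
  · exact Cfsg.Agent.H267.Ore.EEight.six_E8_two h
  · exact six_E8_three' h
  · exact Cfsg.Agent.H85.Pw.six_E8_4 h
  · exact six_E8_nine' h

/-- **`E₈(q)`.** -/
theorem pw_e8 {G : Type u} [Group G] [IsSimpleGroup G] (h : Lie.IsoE8 G) : Pw G :=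
  Cfsg.Agent.H346.PwRows.row_e8 (fun F _ _ hq => six_E8_small F hq) h

end Cfsg.Agent.H122.Pw
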