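import Cfsg.Agent.H122.Pw.EEight

/-!
# `E₈(3)`, `E₈(4)`, `E₈(9)`: products of two elements of order prime to `6` (helper122, S2465)
-/

set_option autoImplicit false
set_option linter.unusedSectionVars false

namespace Cfsg.Agent.H122.Pw

open Cfsg.Lie Cfsg.Agent.H78.Pw Cfsg.Agent.H85.Pw Cfsg.Agent.H194.Pw Cfsg.Agent.H162.GaussSL

universe u

variable {K : Type u} [Field K] [Finite K]

/-- elements of prime order `ℓ`, prime to `q - 1` and to the characteristic -/
theorem irr_two {ℓ : ℕ} (hℓ : ℓ.Prime) (h1 : ℓ.Coprime (Nat.card K - 1)) (h2 : (ℓ : K) ≠ 0)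
    {X : Matrix.SpecialLinearGroup (Fin 2) K} (hX : orderOf X = ℓ) :
    Irreducible (X : Matrix (Fin 2) (Fin 2) K).charpoly := by
  classical
  have hm := Matrix.charpoly_monic (X : Matrix (Fin 2) (Fin 2) K)
  have hd : (X : Matrix (Fin 2) (Fin 2) K).charpoly.natDegree = 2 := by
    rw [Matrix.charpoly_natDegree_eq_dim, Fintype.card_fin]
  have hpow : (X : Matrix (Fin 2) (Fin 2) K) ^ ℓ = 1 := by
    have h3 := pow_orderOf_eq_one X
    rw [hX] at h3
    rw [← Matrix.SpecialLinearGroup.coe_pow, h3]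
    rfl
  rw [hm.irreducible_iff_roots_eq_zero_of_degree_le_three (by omega) (by omega)]
  rw [Multiset.eq_zero_iff_forall_notMem]
  intro c hc
  have hc := (Polynomial.mem_roots hm.ne_zero).1 hc
  obtain ⟨v, hv0, hv⟩ : ∃ v : Fin 2 → K, v ≠ 0 ∧ (X : Matrix (Fin 2) (Fin 2) K).mulVec v = c • v := by
    have h3 : (Matrix.scalar (Fin 2) c - (X : Matrix (Fin 2) (Fin 2) K)).det = 0 := by
      rw [← Matrix.eval_charpoly]
      exact hc
    obtain ⟨v, hv0, hv⟩ := Matrix.exists_mulVec_eq_zero_iff.2 h3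
    refine ⟨v, hv0, ?_⟩
    rw [Matrix.sub_mulVec, sub_eq_zero] at hv
    rw [← hv, Matrix.scalar_apply]
    ext i
    simp [Matrix.mulVec_diagonal]
  have hcl : c ^ ℓ = 1 := by
    have h3 : ∀ m : ℕ, ((X : Matrix (Fin 2) (Fin 2) K) ^ m).mulVec v = c ^ m • v := by
      intro m
      induction m with
      | zero => rw [pow_zero, pow_zero, Matrix.one_mulVec, one_smul]
      | succ m ih => rw [pow_succ, ← Matrix.mulVec_mulVec, hv, Matrix.mulVec_smul, ih, smul_smul, pow_succ, mul_comm]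
    have h4 := h3 ℓ
    rw [hpow, Matrix.one_mulVec] at h4
    have h5 : (c ^ ℓ - 1) • v = 0 := by rw [sub_smul, one_smul, ← h4, sub_self]
    exact sub_eq_zero.1 ((smul_eq_zero.1 h5).resolve_right hv0)
  have hc0 : c ≠ 0 := by
    rintro rfl
    rw [zero_pow hℓ.ne_zero] at hcl
    exact zero_ne_one hcl
  have hc1 : c = 1 := by
    have := Fintype.ofFinite K
    have h3 := FiniteField.pow_card_sub_one_eq_one c hc0
    rw [← Nat.card_eq_fintype_card] at h3
    have h4 := Nat.dvd_gcd (orderOf_dvd_of_pow_eq_one hcl) (orderOf_dvd_of_pow_eq_one h3)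
    rw [h1] at h4
    exact orderOf_eq_one_iff.1 (Nat.dvd_one.1 h4)
  -- `(X - 1)² = 0`
  have hdet : (X : Matrix (Fin 2) (Fin 2) K).det = 1 := X.2
  have htr : (X : Matrix (Fin 2) (Fin 2) K).trace = 2 := by
    have h3 : (X : Matrix (Fin 2) (Fin 2) K).charpoly.eval 1 = 0 := by
      subst hc1
      exact hc
    rw [Matrix.charpoly_fin_two, hdet] at h3
    simp only [Polynomial.eval_add, Polynomial.eval_sub, Polynomial.eval_pow, Polynomial.eval_X, Polynomial.eval_mul,
      Polynomial.eval_C] at h3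
    linear_combination -h3
  obtain ⟨N, hN⟩ : ∃ N, N = (X : Matrix (Fin 2) (Fin 2) K) - 1 := ⟨_, rfl⟩
  have hNN : N * N = 0 := by
    have h3 := Matrix.aeval_self_charpoly (X : Matrix (Fin 2) (Fin 2) K)
    rw [Matrix.charpoly_fin_two, hdet, htr] at h3
    simp only [map_add, map_sub, map_pow, map_mul, Polynomial.aeval_X, map_one, map_ofNat] at h3
    rw [hN]
    have h4 : ((X : Matrix (Fin 2) (Fin 2) K) - 1) * ((X : Matrix (Fin 2) (Fin 2) K) - 1) =
        (X : Matrix (Fin 2) (Fin 2) K) ^ 2 - 2 * (X : Matrix (Fin 2) (Fin 2) K) + 1 := by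
      noncomm_ring
    rw [h4]
    exact h3
  have hXN : (X : Matrix (Fin 2) (Fin 2) K) = 1 + N := by rw [hN]; abel
  have hpowN : ∀ m : ℕ, (X : Matrix (Fin 2) (Fin 2) K) ^ m = 1 + (m : K) • N := by
    intro m
    induction m with
    | zero => simp
    | succ m ih =>
      rw [pow_succ, ih, hXN, mul_add, mul_one, _root_.add_mul, one_mul, smul_mul_assoc, hNN, smul_zero, add_zero]
      rw [Nat.cast_succ, add_smul, one_smul]
      abel
  have h3 := hpowN ℓ
  rw [hpow] at h3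
  have h4 : (ℓ : K) • N = 0 := by
    have := h3.symm
    rwa [add_eq_left] at this
  have h5 : N = 0 := (smul_eq_zero.1 h4).resolve_left h2
  have h6 : X = 1 := by
    apply Subtype.ext
    change (X : Matrix (Fin 2) (Fin 2) K) = 1
    rw [hXN, h5, add_zero]
  rw [h6, orderOf_one] at hX
  exact hℓ.one_lt.ne hX

/-- the block of type `A₁` -/
theorem pi_two {ℓ : ℕ} (hℓ : ℓ.Prime) (h5 : 5 ≤ ℓ) (hd : ℓ ∣ Nat.card K ^ 2 - 1) (h1 : ℓ.Coprime (Nat.card K - 1))
    (h2 : (ℓ : K) ≠ 0) : PI 2 K ℓ := by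
  intro L hL U hU
  obtain ⟨x, y, e, hx, hy⟩ := Cfsg.Agent.H267.Ore.PTwo.p_two_prime hℓ h5 hd
    (Cfsg.Agent.H267.Ore.PTwo.nonscalar_LU hL hU)
  exact ⟨x, y, e, ⟨irr_two hℓ h1 h2 hx, by rw [← hx, pow_orderOf_eq_one]⟩,
    irr_two hℓ h1 h2 hy, by rw [← hy, pow_orderOf_eq_one]⟩

/-- **`E₈(3)`** -/
theorem six_E8_three (hK : Nat.card K = 3) (h5 : PI 5 K 121) (h4 : PI 4 K 5) : All 6 ↥(chevE8.group K) :=
  all_of_pairs (N := 121 * 5) (by norm_num) (pairsP (by rw [hK]; decide) h5 h4)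

/-- **`E₈(4)`** -/
theorem six_E8_four (hK : Nat.card K = 4) (h5 : PI 5 K 341) (h3 : PI 3 K 7) : All 6 ↥(chevE8.group K) := by
  have h2 : PI 2 K 5 := pi_two (by norm_num) le_rfl (by rw [hK]; norm_num) (by rw [hK]; norm_num) (by
    intro h
    have := Fintype.ofFinite K
    have h7 : (4 : K) = 0 := by
      have h8 : ((Fintype.card K : ℕ) : K) = 0 := FiniteField.cast_card_eq_zero K
      rw [← Nat.card_eq_fintype_card, hK] at h8
      exact_mod_cast h8
    have h9 : (1 : K) = 0 := by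
      have h10 : (1 : K) = ((5 : ℕ) : K) - 4 := by norm_num
      rw [h10, h, h7, sub_zero]
    exact one_ne_zero h9)
  exact all_of_pairs (N := 341 * (7 * 5)) (by norm_num) (pairsQ (by rw [hK]; decide) h5 h3 h2)

/-- **`E₈(9)`** -/
theorem six_E8_nine (hK : Nat.card K = 9) (h5 : PI 5 K 7381) (h3 : PI 3 K 91) : All 6 ↥(chevE8.group K) := by
  have h2 : PI 2 K 5 := pi_two (by norm_num) le_rfl (by rw [hK]; norm_num) (by rw [hK]; norm_num) (by
    intro h
    have := Fintype.ofFinite K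
    have h7 : (9 : K) = 0 := by
      have h8 : ((Fintype.card K : ℕ) : K) = 0 := FiniteField.cast_card_eq_zero K
      rw [← Nat.card_eq_fintype_card, hK] at h8
      exact_mod_cast h8
    have h9 : (1 : K) = 0 := by
      have h10 : (1 : K) = 2 * ((5 : ℕ) : K) - 9 := by norm_num
      rw [h10, h, h7, sub_zero, mul_zero]
    exact one_ne_zero h9)
  exact all_of_pairs (N := 7381 * (91 * 5)) (by norm_num) (pairsQ (by rw [hK]; decide) h5 h3 h2)

end Cfsg.Agent.H122.Pw
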