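import Cfsg.Agent.H122.Pw.Eig

/-!
# Tables for the Levi subgroups of type `A₄ A₃` and `A₄ A₂ A₁` of `E₈` (helper122, S2465)
-/

set_option autoImplicit false
set_option linter.unusedSectionVars false

namespace Cfsg.Agent.H122.Pw

open Cfsg.Lie Cfsg.Agent.TitsThree.KExcRT Cfsg.Agent.Nodes.RGDChev Cfsg.Agent.KFacts.RgdChevCoord
open Cfsg.Agent.H482.Ore.Fix (wt)
open Cfsg.Agent.H150.E6T (Cm)
open Cfsg.Agent.H194.Pw (ind)
open Cfsg.Agent.ChevalleyStructure.RootVec Cfsg.Agent.ChevalleyStructure.CoxeterGeomTypes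

/-! ### The blocks -/

/-- nodes `1, 3, 4, 2` -/
def ra : Fin 5 → Fin 5 → ℕ :=
  ![![0, 162, 163, 164, 169], ![77, 0, 135, 136, 147], ![76, 104, 0, 130, 142], ![75, 103, 109, 0, 141], ![70, 92, 97, 98, 0]]
def sa : Fin 5 → Fin 5 → ℤ :=
  ![![1, 1, -1, 1, -1], ![1, 1, 1, -1, 1], ![-1, 1, 1, 1, 1], ![1, -1, 1, 1, 1], ![-1, 1, 1, 1, 1]]
def ja : Fin 4 → Fin 8 := ![0, 2, 3, 1]

/-- nodes `6, 7, 8` -/
def rb : Fin 4 → Fin 4 → ℕ := ![![0, 123, 124, 125], ![116, 0, 121, 122], ![115, 118, 0, 120], ![114, 117, 119, 0]]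
def sb : Fin 4 → Fin 4 → ℤ := ![![1, 1, -1, 1], ![1, 1, 1, -1], ![-1, 1, 1, 1], ![1, -1, 1, 1]]
def jb : Fin 3 → Fin 8 := ![5, 6, 7]

/-- nodes `5, 6, 7, 8` -/
def rc : Fin 5 → Fin 5 → ℕ :=
  ![![0, 126, 127, 128, 129], ![113, 0, 123, 124, 125], ![112, 116, 0, 121, 122], ![111, 115, 118, 0, 120], ![110, 114, 117, 119, 0]]
def sc : Fin 5 → Fin 5 → ℤ :=
  ![![1, 1, -1, 1, -1], ![1, 1, 1, -1, 1], ![-1, 1, 1, 1, -1], ![1, -1, 1, 1, 1], ![-1, 1, -1, 1, 1]]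
def jc : Fin 4 → Fin 8 := ![4, 5, 6, 7]

/-- nodes `1, 3` -/
def rd : Fin 3 → Fin 3 → ℕ := ![![0, 162, 163], ![77, 0, 135], ![76, 104, 0]]
def sd : Fin 3 → Fin 3 → ℤ := ![![1, 1, -1], ![1, 1, 1], ![-1, 1, 1]]
def jd : Fin 2 → Fin 8 := ![0, 2]

/-- node `2` -/
def re : Fin 2 → Fin 2 → ℕ := ![![0, 141], ![98, 0]]
def se : Fin 2 → Fin 2 → ℤ := ![![1, 1], ![1, 1]]
def je : Fin 1 → Fin 8 := ![1]

theorem rta : RTa chevE8 ra ∧ RTb chevE8 ra sa ∧ RTc chevE8 ra ∧ RTd sa ∧ (∀ i j, sa j i = sa i j) ∧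
    ∀ i j, i ≠ j → ra j i = chevE8.neg (ra i j) := by decide +kernel

theorem rtb : RTa chevE8 rb ∧ RTb chevE8 rb sb ∧ RTc chevE8 rb ∧ RTd sb ∧ (∀ i j, sb j i = sb i j) ∧
    ∀ i j, i ≠ j → rb j i = chevE8.neg (rb i j) := by decide +kernel

theorem rtc : RTa chevE8 rc ∧ RTb chevE8 rc sc ∧ RTc chevE8 rc ∧ RTd sc ∧ (∀ i j, sc j i = sc i j) ∧
    ∀ i j, i ≠ j → rc j i = chevE8.neg (rc i j) := by decide +kernel

theorem rtd : RTa chevE8 rd ∧ RTb chevE8 rd sd ∧ RTc chevE8 rd ∧ RTd sd ∧ (∀ i j, sd j i = sd i j) ∧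
    ∀ i j, i ≠ j → rd j i = chevE8.neg (rd i j) := by decide +kernel

theorem rte : RTa chevE8 re ∧ RTd se ∧ (∀ i j, se j i = se i j) ∧ ∀ i j, i ≠ j → re j i = chevE8.neg (re i j) := by
  decide +kernel

theorem sima : (∀ a : Fin 4, ra a.castSucc a.succ = chevE8.simple (ja a)) ∧
    ∀ a : Fin 4, ra a.succ a.castSucc = chevE8.neg (chevE8.simple (ja a)) := by decide +kernel

theorem simb : (∀ a : Fin 3, rb a.castSucc a.succ = chevE8.simple (jb a)) ∧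
    ∀ a : Fin 3, rb a.succ a.castSucc = chevE8.neg (chevE8.simple (jb a)) := by decide +kernel

theorem simc : (∀ a : Fin 4, rc a.castSucc a.succ = chevE8.simple (jc a)) ∧
    ∀ a : Fin 4, rc a.succ a.castSucc = chevE8.neg (chevE8.simple (jc a)) := by decide +kernel

theorem simd : (∀ a : Fin 2, rd a.castSucc a.succ = chevE8.simple (jd a)) ∧
    ∀ a : Fin 2, rd a.succ a.castSucc = chevE8.neg (chevE8.simple (jd a)) := by decide +kernel

theorem sime : (∀ a : Fin 1, re a.castSucc a.succ = chevE8.simple (je a)) ∧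
    ∀ a : Fin 1, re a.succ a.castSucc = chevE8.neg (chevE8.simple (je a)) := by decide +kernel

/-! ### The Levi subgroups -/

/-- `A₄ A₃` -/
def JP : List (Fin 8) := [0, 1, 2, 3, 5, 6, 7]

/-- `A₄ A₂ A₁` -/
def JQ : List (Fin 8) := [0, 1, 2, 4, 5, 6, 7]

theorem raP : ∀ a b : Fin 5, a ≠ b → ∀ k : Fin 8, k ∉ JP → vec chevE8 8 (ra a b) k = 0 := by decide +kernel
theorem rbP : ∀ a b : Fin 4, a ≠ b → ∀ k : Fin 8, k ∉ JP → vec chevE8 8 (rb a b) k = 0 := by decide +kernel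
theorem rcQ : ∀ a b : Fin 5, a ≠ b → ∀ k : Fin 8, k ∉ JQ → vec chevE8 8 (rc a b) k = 0 := by decide +kernel
theorem rdQ : ∀ a b : Fin 3, a ≠ b → ∀ k : Fin 8, k ∉ JQ → vec chevE8 8 (rd a b) k = 0 := by decide +kernel
theorem reQ : ∀ a b : Fin 2, a ≠ b → ∀ k : Fin 8, k ∉ JQ → vec chevE8 8 (re a b) k = 0 := by decide +kernel

theorem cmab : ∀ a b : Fin 5, a ≠ b → ∀ c d : Fin 4, c ≠ d → Cm chevE8 (ra a b) (rb c d) := by decide +kernel
theorem cmcd : ∀ a b : Fin 5, a ≠ b → ∀ c d : Fin 3, c ≠ d → Cm chevE8 (rc a b) (rd c d) := by decide +kernel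
theorem cmce : ∀ a b : Fin 5, a ≠ b → ∀ c d : Fin 2, c ≠ d → Cm chevE8 (rc a b) (re c d) := by decide +kernel
theorem cmde : ∀ a b : Fin 3, a ≠ b → ∀ c d : Fin 2, c ≠ d → Cm chevE8 (rd a b) (re c d) := by decide +kernel

/-- the roots of a block -/
def Qb {m : ℕ} (r : Fin m → Fin m → ℕ) (q : ℕ) : Prop := ∃ a b : Fin m, a ≠ b ∧ r a b = q ∧
      (a < b → ∃ k, 0 < vec chevE8 8 q k) ∧ (b < a → ∃ k, vec chevE8 8 q k < 0)

instance decQb {m : ℕ} (r : Fin m → Fin m → ℕ) (q : ℕ) : Decidable (Qb r q) := by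
  unfold Qb
  refine @Fintype.decidableExistsFintype _ _ (fun a => ?_) _
  refine @Fintype.decidableExistsFintype _ _ (fun b => ?_) _
  infer_instance

theorem subP : ∀ q < chevE8.nroots, (∀ k : Fin 8, k ∉ JP → vec chevE8 8 q k = 0) → Qb ra q ∨ Qb rb q := by
  intro q hq
  revert q
  refine @of_decide_eq_true _ ?_ ?_
  · refine @Nat.decidableBallLT _ _ fun q _ => ?_
    infer_instance
  · decide +kernel

theorem subQ : ∀ q < chevE8.nroots, (∀ k : Fin 8, k ∉ JQ → vec chevE8 8 q k = 0) → (Qb rc q ∨ Qb rd q) ∨ Qb re q := by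
  intro q hq
  revert q
  refine @of_decide_eq_true _ ?_ ?_
  · refine @Nat.decidableBallLT _ _ fun q _ => ?_
    infer_instance
  · decide +kernel

/-- the weight of a root on a block of type `A₄` -/
def Wf (j : Fin 4 → Fin 8) (q : ℕ) : Prop := ∃ a b : Fin 5, a ≤ b ∧ ((∀ k, wt chevE8 j q k = ind a b k - ind a b 4) ∨
      ∀ k, wt chevE8 j q k = -ind a b k + ind a b 4)

instance decWf (j : Fin 4 → Fin 8) (q : ℕ) : Decidable (Wf j q) := by
  unfold Wf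
  refine @Fintype.decidableExistsFintype _ _ (fun a => ?_) _
  refine @Fintype.decidableExistsFintype _ _ (fun b => ?_) _
  infer_instance

/-- the weight of a root on a block: one eigenvalue or its inverse -/
def Wo {n : ℕ} (j : Fin (n + 1) → Fin 8) (q : ℕ) : Prop :=
  ∃ a : Fin (n + 2), (∀ k, wt chevE8 j q k = (if k = a then 1 else 0) - (if Fin.last (n + 1) = a then 1 else 0)) ∨
      ∀ k, wt chevE8 j q k = -(if k = a then 1 else 0) + (if Fin.last (n + 1) = a then 1 else 0)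

instance decWo {n : ℕ} (j : Fin (n + 1) → Fin 8) (q : ℕ) : Decidable (Wo j q) := by
  unfold Wo
  refine @Fintype.decidableExistsFintype _ _ (fun a => ?_) _
  infer_instance

theorem outP : ∀ q < chevE8.nroots, (∃ k : Fin 8, k ∉ JP ∧ vec chevE8 8 q k ≠ 0) →
    Wf ja q ∨ ((∀ k, wt chevE8 ja q k = 0) ∧ Wo jb q) := by
  intro q hq
  revert q
  refine @of_decide_eq_true _ ?_ ?_
  · refine @Nat.decidableBallLT _ _ fun q _ => ?_
    infer_instance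
  · decide +kernel

theorem outQ : ∀ q < chevE8.nroots, (∃ k : Fin 8, k ∉ JQ ∧ vec chevE8 8 q k ≠ 0) →
    Wf jc q ∨ ((∀ k, wt chevE8 jc q k = 0) ∧ Wo jd q ∧ Wo je q) := by
  intro q hq
  revert q
  refine @of_decide_eq_true _ ?_ ?_
  · refine @Nat.decidableBallLT _ _ fun q _ => ?_
    infer_instance
  · decide +kernel

end Cfsg.Agent.H122.Pw
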